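import Mathlib
import Cfsg.Agent.Lib.McKay.Gall
import Cfsg.Agent.Lib.Triple.Cover

/-! The core step of the McKay count for `p`-solvable groups: an invariant character of a normal
`p'`-subgroup and its Glauberman correspondent have equally many `p'`-degree characters above. -/

set_option autoImplicit false

namespace CfsgLib.McKay

open Cfsg CfsgLib.Char CfsgLib.CharDeep CfsgLib.ChDeg CfsgLib.Glaub CfsgLib.Coprime Subgroup
open scoped ComplexConjugate Pointwise commutatorElement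

variable {G : Type*} [Group G] {p : ℕ} [hp : Fact p.Prime]

theorem coprime_of_isPGroup {P : Type*} [Group P] [Finite P] (hP : IsPGroup p P) {n : ℕ}
    (hn : ¬ p ∣ n) : (Nat.card P).Coprime n := by
  obtain ⟨k, hk⟩ := IsPGroup.iff_card.mp hP
  rw [hk]
  exact Nat.Coprime.pow_left k (hp.out.coprime_iff_not_dvd.mpr hn)

theorem eq_one_of_mem_pgroup [Finite G] {Q : Subgroup G} (hQ : IsPGroup p Q) {q : G} (hq : q ∈ Q)
    {n : ℕ} (hn : ¬ p ∣ n) (h : q ^ n = 1) : q = 1 := by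
  have h1 : q ^ Nat.card Q = 1 := congrArg Subtype.val (pow_card_eq_one' (x := (⟨q, hq⟩ : Q)))
  have h2 := pow_gcd_eq_one.mpr ⟨h1, h⟩
  rwa [coprime_of_isPGroup hQ hn, pow_one] at h2

theorem exists_compl_proj [Finite G] (Q W : Subgroup G) [Q.Normal] (hQ : IsPGroup p Q)
    (hi : ¬ p ∣ Q.index) : ∃ (U : Subgroup G) (hU : U ≤ W) (ρ : W →* U), ¬ p ∣ Nat.card U ∧
      (∀ u : U, ρ (inclusion hU u) = u) ∧ ∀ w : W, ρ w = 1 ↔ (w : G) ∈ Q := by
  have hi' : ¬ p ∣ (Q.subgroupOf W).index := fun h => hi (h.trans (relIndex_dvd_index_of_normal Q W))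
  obtain ⟨H, hH⟩ := exists_left_complement'_of_coprime (N := Q.subgroupOf W)
    (coprime_of_isPGroup (hQ.comap_subtype) hi')
  let e := H.equivMapOfInjective W.subtype W.subtype_injective
  refine ⟨H.map W.subtype, map_subtype_le H, (e.toMonoidHom.comp
    hH.QuotientMulEquiv.toMonoidHom).comp (QuotientGroup.mk' _), ?_, fun u => ?_, fun w => ?_⟩
  · rwa [← Nat.card_congr e.toEquiv, ← hH.index_eq_card]
  · obtain ⟨u, rfl⟩ := e.surjective u
    exact congrArg e (hH.QuotientMulEquiv.apply_symm_apply u)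
  · simp only [MonoidHom.comp_apply, MulEquiv.toMonoidHom_eq_coe, MonoidHom.coe_coe,
      EmbeddingLike.map_eq_one_iff, QuotientGroup.mk'_apply, QuotientGroup.eq_one_iff]
    rfl

theorem commutator_le_cker_of_not_dvd [Finite G] (Q : Subgroup G) [Q.Normal] (hQ : IsPGroup p Q)
    {χ : G → ℂ} (hχ : IsIrrCharacter G χ) (hd : ¬ p ∣ charDegree χ) : ⁅Q, Q⁆ ≤ cker χ := by
  have := Fintype.ofFinite Q
  have hc := isCharacter_of_isIrr hχ
  refine commutator_le.mpr fun a ha b hb => ?_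
  have h1 : ⁅(⟨a, ha⟩ : Q), ⟨b, hb⟩⁆ ∈ cker (fun q : Q => χ q) := by
    refine mem_cker_of_forall (isCharacter_restrict Q hc) fun ψ hψ h => ?_
    have h2 := deg_eq_one_of_isPGroup hQ hψ (fun h' => hd (h'.trans (deg_dvd_of_over Q hχ hψ h)))
    exact (deg_eq_one_iff_commutator_le hψ).mp h2 (commutator_mem_commutator (mem_top _) (mem_top _))
  rw [cker_res Q hc] at h1
  exact h1

theorem cnt_quot_comm [Finite G] (Q : Subgroup G) [Q.Normal] (hQ : IsPGroup p Q)
    (hi : ¬ p ∣ Q.index) {D : Type*} [Group D] [Finite D] (κ : D →* G) (θ : D → ℂ) :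
    cnt p 1 κ θ = cnt 0 1 ((QuotientGroup.mk' ⁅Q, Q⁆).comp κ) θ := by
  refine cnt_inflate' (QuotientGroup.mk'_surjective ⁅Q, Q⁆) (σ := MonoidHom.id D)
    Function.surjective_id (fun _ => rfl) (fun χ hχ hd _ z hz => ?_) (fun χ hχ => ?_)
  · exact (mem_cker (isCharacter_of_isIrr hχ)).mp (commutator_le_cker_of_not_dvd Q hQ hχ hd
      ((QuotientGroup.eq_one_iff z).mp hz))
  · refine iff_of_true (good_zero hχ).1 fun h => hi (h.trans ?_)
    have := Subgroup.Normal.map (inferInstance : Q.Normal) _ (QuotientGroup.mk'_surjective ⁅Q, Q⁆)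
    refine (deg_dvd_index_of_comm hχ (Q.map (QuotientGroup.mk' ⁅Q, Q⁆)) ?_).trans
      (index_map_dvd Q (QuotientGroup.mk'_surjective _))
    rintro _ ⟨a, ha, rfl⟩ _ ⟨b, hb, rfl⟩
    rw [← commutatorElement_eq_one_iff_mul_comm, ← map_commutatorElement]
    exact (QuotientGroup.eq_one_iff _).mpr (commutator_mem_commutator ha hb)

omit hp in
theorem exists_abelian_over (M : Subgroup G) [M.Normal] {x y : G} (h : x * y * x⁻¹ * y⁻¹ ∈ M) :
    ∃ W : Subgroup G, M ≤ W ∧ x ∈ W ∧ y ∈ W ∧ ⁅W, W⁆ ≤ M := by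
  let f := QuotientGroup.mk' M
  have hxy : f x * f y = f y * f x := by
    rw [← commutatorElement_eq_one_iff_mul_comm, ← map_commutatorElement]
    exact (QuotientGroup.eq_one_iff _).mpr h
  have h1 : ({f x, f y} : Set (G ⧸ M)) ⊆ centralizer ({f x, f y} : Set (G ⧸ M)) := by
    rintro a (rfl | rfl) b (rfl | rfl) <;> simp [hxy]
  refine ⟨(centralizer (centralizer ({f x, f y} : Set (G ⧸ M)) : Set (G ⧸ M))).comap f,
    fun m hm => ?_, fun a ha => (ha _ (by simp)).symm, fun a ha => (ha _ (by simp)).symm,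
    commutator_le.mpr fun a ha b hb => ?_⟩
  · rw [mem_comap, show f m = 1 from (QuotientGroup.eq_one_iff _).mpr hm]
    exact one_mem _
  · rw [← QuotientGroup.eq_one_iff]
    change f ⁅a, b⁆ = 1
    rw [map_commutatorElement, commutatorElement_eq_one_iff_mul_comm]
    exact hb _ (centralizer_le h1 ha)

/-- The twisting count for `p'`-degrees in a group with a normal Sylow `p`-subgroup. -/
theorem cnt_twist_local [Finite G] {D : Type*} [Group D] {κ : D →* G}
    (hκ : Function.Injective κ) [hn : κ.range.Normal] (hD : ¬ p ∣ Nat.card D) (Q : Subgroup G)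
    [hQn : Q.Normal] (hQ : IsPGroup p Q) (hi : ¬ p ∣ Q.index) {β : D → ℂ}
    (hβ : IsIrrCharacter D β) (hiβ : InvH κ β) (μ : D →* ℂˣ) (hμ : InvH κ (fun d => μ d))
    (hext : ∀ U : Subgroup G, ¬ p ∣ Nat.card U → ∀ hU : ∀ d, κ d ∈ U, ⁅U, U⁆ ≤ κ.range →
      ∃ ξ : U → ℂ, IsCharacter U ξ ∧ ∀ d, ξ ⟨κ d, hU d⟩ = μ d * β d) :
    cnt p 1 κ β = cnt p 1 κ (fun d => (μ d⁻¹ : ℂ)) := by
  have := Finite.of_injective κ hκ
  have hQQ : ⁅Q, Q⁆ ≤ Q := commutator_le_left Q Q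
  have h1 : ∀ d, κ d ∈ Q → d = 1 := fun d hd => hκ (by
    rw [map_one]
    exact eq_one_of_mem_pgroup hQ hd hD (by rw [← map_pow, pow_card_eq_one', map_one]))
  have hcomm : ∀ d, ∀ q ∈ Q, Commute (κ d) q := fun d q hq =>
    commute_of_normal_of_disjoint κ.range Q hn hQn (disjoint_def.mpr fun {x} hx hx' => by
      obtain ⟨d, rfl⟩ := hx
      rw [h1 d hx', map_one]) _ _ ⟨d, rfl⟩ hq
  let f := QuotientGroup.mk' ⁅Q, Q⁆
  have hf : Function.Surjective f := QuotientGroup.mk'_surjective _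
  have hκ' : Function.Injective (f.comp κ) := (injective_iff_map_eq_one _).mpr fun d hd =>
    h1 d (hQQ ((QuotientGroup.eq_one_iff _).mp hd))
  have : (f.comp κ).range.Normal := by
    rw [MonoidHom.range_comp]; exact hn.map f hf
  have hinv : ∀ {φ : D → ℂ}, InvH κ φ → InvH (f.comp κ) φ := fun hφ g m m' e => by
    obtain ⟨g, rfl⟩ := hf g
    obtain ⟨m₁, hm₁⟩ := hn.conj_mem _ ⟨m, rfl⟩ g
    have e' : m' = m₁ := hκ' (by rw [e, MonoidHom.comp_apply, MonoidHom.comp_apply, hm₁]; simp)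
    exact e' ▸ hφ g m m₁ hm₁
  rw [cnt_quot_comm Q hQ hi, cnt_quot_comm Q hQ hi]
  refine cnt_twistH hκ' hβ (hinv hiβ) μ (hinv hμ) fun x y h => ?_
  obtain ⟨x, rfl⟩ := hf x
  obtain ⟨y, rfl⟩ := hf y
  obtain ⟨d₀, hd₀⟩ := h
  have h2 : x * y * x⁻¹ * y⁻¹ ∈ κ.range ⊔ Q := by
    have h3 : (κ d₀)⁻¹ * (x * y * x⁻¹ * y⁻¹) ∈ ⁅Q, Q⁆ := QuotientGroup.eq.mp hd₀
    have h4 := mul_mem_sup (S := κ.range) ⟨d₀, rfl⟩ (hQQ h3)
    rwa [mul_inv_cancel_left] at h4
  obtain ⟨W, hMW, hx, hy, hWW⟩ := exists_abelian_over _ h2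
  obtain ⟨U, hU, ρ, hUp, hρ, hρ'⟩ := exists_compl_proj Q W hQ hi
  have hDW : ∀ d, κ d ∈ W := fun d => hMW (mem_sup_left ⟨d, rfl⟩)
  have hρD : ∀ d, (ρ ⟨κ d, hDW d⟩ : G) = κ d := fun d => by
    have h3 : (κ d)⁻¹ * ρ ⟨κ d, hDW d⟩ ∈ Q := (hρ' ((⟨κ d, hDW d⟩ : W)⁻¹ *
      inclusion hU (ρ ⟨κ d, hDW d⟩))).mp (by rw [map_mul, hρ, map_inv, inv_mul_cancel])
    have h4 := eq_one_of_mem_pgroup hQ h3 (n := Nat.card D * Nat.card U)
      (fun h => (hp.out.dvd_mul.mp h).elim hD hUp) (by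
        have h5 : Commute (κ d)⁻¹ (ρ ⟨κ d, hDW d⟩ : G) := by
          have h6 := (Commute.refl (κ d)).mul_right (hcomm d _ h3)
          rw [mul_inv_cancel_left] at h6
          exact h6.inv_left
        rw [h5.mul_pow, ← map_inv, ← map_pow, pow_mul, pow_card_eq_one', one_pow, map_one, one_mul,
          pow_mul', ← coe_pow, pow_card_eq_one', coe_one, one_pow])
    exact (inv_mul_eq_one.mp h4).symm
  have hDU : ∀ d, κ d ∈ U := fun d => hρD d ▸ (ρ ⟨κ d, hDW d⟩).2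
  obtain ⟨ξ, hξ, hξD⟩ := hext U hUp hDU (fun u hu => by
    have hu' := commutator_le_of_le_normalizer le_normalizer hu
    obtain ⟨_, ⟨d, rfl⟩, q, hq, e⟩ := mem_sup_of_normal_right.mp
      (hWW (commutator_mono hU hU hu))
    have h3 : inclusion hU ⟨u, hu'⟩ = ⟨κ d, hDW d⟩ * ⟨q, hMW (mem_sup_right hq)⟩ :=
      Subtype.ext e.symm
    have h4 := hρ ⟨u, hu'⟩
    rw [h3, map_mul, (hρ' ⟨q, _⟩).mpr hq, mul_one] at h4
    exact ⟨d, (hρD d).symm.trans (congrArg Subtype.val h4)⟩)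
  obtain ⟨ξ', hξ', h3⟩ := exists_char_comp_eq (f.subgroupMap W) (f.subgroupMap_surjective W)
    (isCharacter_comp ρ hξ) (fun w hw => by
      rw [(hρ' w).mpr (hQQ ((QuotientGroup.eq_one_iff _).mp (congrArg Subtype.val hw))), map_one])
  refine ⟨W.map f, fun d => ⟨κ d, hDW d, rfl⟩, ξ', ⟨x, hx, rfl⟩, ⟨y, hy, rfl⟩, hξ', fun d => ?_⟩
  refine (h3 ⟨κ d, hDW d⟩).trans (Eq.trans (congrArg ξ (Subtype.ext (hρD d))) (hξD d))

section ambient

variable {X : Type*} [Group X] [Finite X]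

theorem inf_normalizer_eq {K Q : Subgroup X} (hK : ¬ p ∣ Nat.card K) (hQ : IsPGroup p Q)
    (hQK : Q ≤ normalizer (K : Set X)) :
    K ⊓ normalizer (Q : Set X) = K ⊓ centralizer (Q : Set X) := by
  refine le_antisymm (fun k hk => ⟨hk.1, fun q hq => ?_⟩)
    (inf_le_inf_left K (centralizer_le_normalizer _))
  have h1 : q * k * q⁻¹ * k⁻¹ ∈ K :=
    K.mul_mem ((mem_normalizer_iff.mp (hQK hq) k).mp hk.1) (K.inv_mem hk.1)
  have h2 : q * k * q⁻¹ * k⁻¹ ∈ Q := by
    have h3 := Q.mul_mem hq ((mem_normalizer_iff.mp hk.2 _).mp (Q.inv_mem hq))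
    simpa only [mul_assoc] using h3
  have h3 := eq_one_of_mem_pgroup hQ h2 hK
    (congrArg Subtype.val (pow_card_eq_one' (x := (⟨_, h1⟩ : K))))
  exact commutatorElement_eq_one_iff_mul_comm.mp h3

omit [Finite X] hp in
theorem le_normalizer_inf {K N : Subgroup X} (h : N ≤ normalizer (K : Set X)) :
    N ≤ normalizer ((K ⊓ N : Subgroup X) : Set X) :=
  fun _ hg => inf_normalizer_le_normalizer_inf ⟨h hg, le_normalizer hg⟩

omit [Finite X] hp in
theorem stab_units_inv {K : Subgroup X} (μ : K →* ℂˣ) :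
    stab K (fun k => (μ k : ℂ)) ≤ stab K (fun k => (μ k⁻¹ : ℂ)) := fun _ hg =>
  ⟨hg.1, fun m m' e => hg.2 m⁻¹ m'⁻¹ (by simp [e, mul_assoc])⟩

omit [Finite X] hp in
theorem stab_mul {K : Subgroup X} {φ ψ : K → ℂ} {g : X} (h : g ∈ stab K φ) (h' : g ∈ stab K ψ) :
    g ∈ stab K (fun k => φ k * ψ k) :=
  ⟨h.1, fun m m' e => congrArg₂ (· * ·) (h.2 m m' e) (h'.2 m m' e)⟩

/-- The core step when a linear twist of the invariant character extends. -/
theorem core_ext {K H Q N D : Subgroup X} [Fintype D] (hKH : K ≤ H) (hK : ¬ p ∣ Nat.card K)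
    (hQ : IsPGroup p Q) (hQH : Q ≤ H) (hi : ¬ p ∣ Q.relIndex H)
    (hN : N = H ⊓ normalizer (Q : Set X)) (hsup : H = K ⊔ N)
    (hD : D = K ⊓ centralizer (Q : Set X)) (hDK : D ≤ K) (hDN : D ≤ N) {φ : K → ℂ}
    (hφ : IsIrrCharacter K φ) (hHφ : H ≤ stab K φ) (μ : K →* ℂˣ)
    (hμ : H ≤ stab K (fun k => μ k)) {E : H → ℂ} (hE : IsCharacter H E)
    (hEK : ∀ k, E (inclusion hKH k) = μ k * φ k) {β : D → ℂ} (hβ : IsIrrCharacter D β)
    (h : ¬ p ∣ mult (inclusion hDK) φ β) :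
    cnt p 1 (inclusion hKH) φ = cnt p 1 (inclusion hDN) β := by
  have hH := hHφ.trans (stab_le K φ)
  have hNH : N ≤ H := hN ▸ inf_le_left
  have hNQ : N ≤ normalizer (Q : Set X) := hN ▸ inf_le_right
  have hQN : Q ≤ N := hN ▸ le_inf hQH le_normalizer
  have hD' : D = K ⊓ N := by
    rw [hD, hN, ← inf_assoc, inf_eq_left.mpr hKH, inf_normalizer_eq hK hQ (hQH.trans hH)]
  have hND : N ≤ normalizer (D : Set X) := hD' ▸ le_normalizer_inf (hNH.trans hH)
  have := normal_range hKH hH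
  have := normal_range hDN hND
  have := normal_subgroupOf_of_le_normalizer hNQ
  rw [cnt_gallagherH hp.out (inclusion_injective hKH) hφ (fun h => hK (h.trans (deg_dvd_card hφ))) μ
    (invH_of_le_stab hKH hμ) hE hEK, cnt_restrict (Nat.coprime_one_left _) hKH hNH hsup hD' hDK hDN
    (hμ.trans (stab_units_inv μ)) (isIrr_units_inv μ) (pw_one _)
    (isIrr_units_inv (μ.comp (inclusion hDK)))]
  refine (cnt_twist_local (inclusion_injective hDN) (fun h => hK (h.trans (card_dvd_of_le hDK)))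
    (Q.subgroupOf N) hQ.comap_subtype (not_dvd_relIndex_left hQN hNH hi) hβ
    (invH_of_le_stab hDN fun g hg => mem_stab_glauberman hQ hK hD hDK hφ (hQH.trans hHφ) hβ h
      (hHφ (hNH hg)) (hND hg)) (μ.comp (inclusion hDK))
    (fun g m m' e => (hμ (hNH g.2)).2 _ _ (congrArg Subtype.val e)) fun U hU hDU hUU => ?_).symm
  let e := U.equivMapOfInjective N.subtype N.subtype_injective
  have hUN : U.map N.subtype ≤ N := map_subtype_le U
  have hDU' : D ≤ U.map N.subtype := fun d hd => ⟨_, hDU ⟨d, hd⟩, rfl⟩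
  have hKU : K ⊔ U.map N.subtype ≤ H := sup_le hKH (hUN.trans hNH)
  obtain ⟨ξ, hξ, h1⟩ := ow_core hQ (hUN.trans hNQ) (by rwa [← Nat.card_congr e.toEquiv]) hDU'
    (by
      rw [← map_commutator]
      rintro _ ⟨x, hx, rfl⟩
      obtain ⟨d, rfl⟩ := hUU hx
      exact d.2)
    (isIrr_linear_mul (μ.comp (inclusion hDK)) hβ) K hK (hUN.trans (hNH.trans hH)) hD hDK _
    (isIrr_linear_mul μ hφ) (fun g hg => stab_mul (hμ (hQH hg)) (hHφ (hQH hg)))
    (fun x => E (inclusion hKU x)) (isCharacter_comp _ hE) hEK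
    (by rw [← mult_linear_mul (inclusion hDK) μ] at h; exact h)
  exact ⟨fun u => ξ (e u), isCharacter_comp e.toMonoidHom (isCharacter_of_isIrr hξ), h1⟩

end ambient

section cover

/-- A central cover of the subgroup `H` in which a linear twist of `ν` extends. -/
structure ACover {X : Type*} [Group X] (L H : Subgroup X) (ν : L → ℂ) (Γ : Type*) [Group Γ] where
  π : Γ →* X
  R : Subgroup Γ
  E : Γ → ℂ
  μ : L.comap π →* ℂˣ
  range : π.range = H
  central : π.ker ≤ center Γ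
  normal : R.Normal
  sup : L.comap π = π.ker ⊔ R
  μ_R : ∀ l : L.comap π, (l : Γ) ∈ R → μ l = 1
  char : IsCharacter Γ E
  E_eq : ∀ (l' : L.comap π) (l : L), π l' = l → E l' = μ l' * ν l

variable {X : Type*} [Group X]

omit hp in
theorem acover_of_cover {L H : Subgroup X} (hLH : L ≤ H) [(L.subgroupOf H).Normal] {ν : L → ℂ}
    {Γ : Type*} [Group Γ]
    (c : Triple.Cover (L.subgroupOf H) (fun x => ν (subgroupOfEquivOfLe hLH x)) Γ) :
    ∃ a : ACover L H ν Γ, a.π.ker = c.π.ker := by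
  let π := H.subtype.comp c.π
  have hk : π.ker = c.π.ker := by
    ext x; simp [π]
  let σ : L.comap π →* L.subgroupOf H := (c.π.comp (L.comap π).subtype).codRestrict _ fun x => x.2
  have hz : ∀ l : L.comap π, (l : Γ) * (c.ι (σ l))⁻¹ ∈ c.π.ker := fun l => by
    rw [MonoidHom.mem_ker, map_mul, map_inv, c.π_ι]
    exact mul_inv_cancel _
  let μ : L.comap π →* ℂˣ := MonoidHom.mk' (fun l => c.lam ⟨_, hz l⟩) fun a b => by
    rw [← map_mul]
    congr 1
    refine Subtype.ext ?_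
    have h1 := mem_center_iff.mp (c.central (hz b)) (c.ι (σ a))⁻¹
    simp only [map_mul, coe_mul, mul_inv_rev]
    rw [mul_assoc (a : Γ) (c.ι (σ a))⁻¹, h1]
    simp only [mul_assoc]
  refine ⟨⟨π, c.ι.range, c.E, μ, ?_, hk ▸ c.central, c.range_normal, ?_, fun l hl => ?_,
    isCharacter_of_isIrr c.irr, fun l' l e => ?_⟩, hk⟩
  · rw [MonoidHom.range_comp, MonoidHom.range_eq_top.mpr c.surj, ← MonoidHom.range_eq_map,
      range_subtype]
  · rw [hk, ← c.comap_eq]; rfl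
  · obtain ⟨n, hn⟩ := hl
    have e : σ l = n := Subtype.ext (by rw [← c.π_ι n, hn]; rfl)
    change c.lam ⟨_, hz l⟩ = 1
    rw [← map_one c.lam]
    congr 1
    exact Subtype.ext (by simp [e, hn])
  · have h1 := c.E_mul ⟨_, hz l'⟩ (c.ι (σ l'))
    rw [inv_mul_cancel_right, c.E_ι] at h1
    rw [h1]
    congr 2
    exact Subtype.ext e

omit hp in
theorem inv_cj_of_le_stab {L H : Subgroup X} (hLH : L ≤ H) [(L.subgroupOf H).Normal] {ν : L → ℂ}
    (hH : H ≤ stab L ν) (g : H) (n : L.subgroupOf H) :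
    ν (subgroupOfEquivOfLe hLH (cj (L.subgroupOf H) g n)) = ν (subgroupOfEquivOfLe hLH n) :=
  (hH g.2).2 _ _ rfl

universe u

theorem exists_acover_coprime {X : Type u} [Group X] [Finite X] {L H : Subgroup X} (hLH : L ≤ H)
    {ν : L → ℂ} (hν : IsIrrCharacter L ν) (hH : H ≤ stab L ν) (hL : ¬ p ∣ Nat.card L) :
    ∃ (Γ : Type u) (_ : Group Γ) (_ : Finite Γ) (a : ACover L H ν Γ), ¬ p ∣ Nat.card a.π.ker := by
  have := normal_subgroupOf_of_le_normalizer (hH.trans (stab_le L ν))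
  have hν' := isIrr_comp_mulEquiv (subgroupOfEquivOfLe hLH) hν
  obtain ⟨Γ, _, _, c, -, h⟩ := Triple.exists_cover (L.subgroupOf H) hν' (inv_cj_of_le_stab hLH hH)
    (deg_cast (isCharacter_of_isIrr hν')).symm
  obtain ⟨a, ha⟩ := acover_of_cover hLH c
  refine ⟨Γ, _, ‹_›, a, fun h' => hL ?_⟩
  rw [← Nat.card_congr (subgroupOfEquivOfLe hLH).toEquiv]
  rw [ha] at h'
  exact (hp.out.dvd_mul.mp (h'.trans h)).elim (fun h => h.trans (detOrder_dvd_card _))
    (fun h => h.trans (deg_dvd_card hν'))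

omit hp in
theorem exists_acover_of_ext {X : Type u} [Group X] [Finite X] {L T H : Subgroup X} (hLT : L ≤ T)
    (hTH : T ≤ H) {ν : L → ℂ} (hν : IsIrrCharacter L ν) (hH : H ≤ stab L ν)
    (hT : ¬ p ∣ T.relIndex H) {η : T → ℂ} (hη : IsCharacter T η)
    (hην : ∀ l, η (inclusion hLT l) = ν l) :
    ∃ (Γ : Type u) (_ : Group Γ) (_ : Finite Γ) (a : ACover L H ν Γ), ¬ p ∣ Nat.card a.π.ker := by
  have hLH := hLT.trans hTH
  have := normal_subgroupOf_of_le_normalizer (hH.trans (stab_le L ν))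
  obtain ⟨d, ρ, hρ, e⟩ := isIrr_comp_mulEquiv (subgroupOfEquivOfLe hLH) hν
  have hinv : ∀ g n, ρ.character (cj (L.subgroupOf H) g n) = ρ.character n := by
    rw [e]; exact inv_cj_of_le_stab hLH hH
  have h1 := index_mem_extIdeal_of_char (L.subgroupOf H) ρ hinv (T.subgroupOf H)
    (fun x hx => hLT hx) (fun x => η (subgroupOfEquivOfLe hTH x))
    (isCharacter_comp (subgroupOfEquivOfLe hTH).toMonoidHom hη)
    (fun n => by rw [e]; exact hην (subgroupOfEquivOfLe hLH n))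
  have h2 := Triple.exists_cover_of_mem (L.subgroupOf H) ρ hinv index_ne_zero_of_finite h1
  rw [e] at h2
  obtain ⟨Γ, _, _, c, h⟩ := h2
  obtain ⟨a, ha⟩ := acover_of_cover hLH c
  exact ⟨Γ, _, ‹_›, a, fun h' => hT ((ha ▸ h').trans h)⟩

omit hp in
theorem ACover.top_le_stab {L H : Subgroup X} {ν : L → ℂ} {Γ : Type*} [Group Γ]
    (a : ACover L H ν Γ) : ⊤ ≤ stab (L.comap a.π) (fun l => a.μ l) := by
  have := a.normal
  have hn : (L.comap a.π).Normal := by rw [a.sup]; infer_instance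
  refine fun g _ => ⟨by rw [normalizer_eq_top]; trivial, fun m m' e => ?_⟩
  have h1 : (m : Γ) ∈ a.π.ker ⊔ a.R := a.sup ▸ m.2
  obtain ⟨z, hz, r, hr, e'⟩ := mem_sup_of_normal_right.mp h1
  have h2 : a.μ (m⁻¹ * m') = 1 := a.μ_R _ (by
    have h3 := mem_center_iff.mp (a.central hz) g
    have h4 : ((m⁻¹ * m' : L.comap a.π) : Γ) = r⁻¹ * (g * r * g⁻¹) := by
      rw [coe_mul, coe_inv, e, ← e', ← mul_assoc g, h3]; group
    rw [h4]
    exact a.R.mul_mem (a.R.inv_mem hr) (this.conj_mem r hr g))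
  rw [map_mul, map_inv, inv_mul_eq_one] at h2
  exact congrArg Units.val h2.symm

omit hp in
theorem comap_le_stab {Γ : Type*} [Group Γ] (π : Γ →* X) {K : Subgroup X} (φ : K → ℂ) :
    (stab K φ).comap π ≤ stab (K.comap π) (fun k => φ (π.subgroupComap K k)) := fun g hg =>
  ⟨le_normalizer_comap π hg.1, fun m m' e => hg.2 _ _ (by
    change π m' = π g * π m * (π g)⁻¹
    rw [e]; simp)⟩

omit hp in
theorem subgroupComap_surj {Γ : Type*} [Group Γ] (π : Γ →* X) {B : Subgroup X}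
    (hB : B ≤ π.range) : Function.Surjective (π.subgroupComap B) := fun b => by
  obtain ⟨x, hx⟩ := hB b.2
  exact ⟨⟨x, by rw [mem_comap, hx]; exact b.2⟩, Subtype.ext hx⟩

theorem not_dvd_card_comap {Γ : Type*} [Group Γ] (π : Γ →* X) (hπ : ¬ p ∣ Nat.card π.ker)
    {K : Subgroup X} (hK : ¬ p ∣ Nat.card K) : ¬ p ∣ Nat.card (K.comap π) := by
  rw [← relIndex_bot_left, ← relIndex_mul_relIndex ⊥ π.ker _ bot_le (ker_le_comap π K),
    relIndex_bot_left, relIndex_ker, hp.out.dvd_mul]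
  exact fun h => h.elim hπ fun h => hK (h.trans (card_dvd_of_le (map_comap_le π K)))

theorem comap_normalizer_map {Γ : Type*} [Group Γ] [Finite Γ] (π : Γ →* X) {Q : Subgroup Γ}
    (hQ : IsPGroup p Q) (hi : ¬ p ∣ Q.index) :
    (normalizer (Q.map π : Set X)).comap π = π.ker ⊔ normalizer (Q : Set Γ) := by
  refine le_antisymm (fun g hg => ?_) (sup_le (ker_le_comap π _)
    (map_le_iff_le_comap.mp (le_normalizer_map π)))
  obtain ⟨t, ht, h⟩ := exists_mul_mem_normalizer hQ (le_comap_map π Q)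
    (not_dvd_relIndex_left (le_comap_map π Q) le_top (by rwa [relIndex_top_right])) (g := g)
    fun s hs => by
      rw [mem_comap, map_mul, map_mul, map_inv]
      exact (mem_normalizer_iff''.mp hg _).mp ⟨s, hs, rfl⟩
  rw [comap_map_eq, sup_comm] at ht
  have h1 := mul_mem (mem_sup_right h : g * t ∈ π.ker ⊔ normalizer (Q : Set Γ))
    (inv_mem (sup_le_sup_left le_normalizer π.ker ht))
  rwa [mul_inv_cancel_right] at h1

theorem exists_sylow_lift {Γ : Type*} [Group Γ] [Finite Γ] (π : Γ →* X) {S : Subgroup X}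
    (hS : IsPGroup p S) (hSH : S ≤ π.range) (hi : ¬ p ∣ S.relIndex π.range) :
    ∃ Q : Subgroup Γ, IsPGroup p Q ∧ ¬ p ∣ Q.index ∧ Q.map π = S := by
  obtain ⟨Q, -, hQS, hQ, hi'⟩ := exists_le_sylow_relIndex (p := p) (bot_le : ⊥ ≤ S.comap π)
    IsPGroup.of_bot
  have h1 : ¬ p ∣ Q.index := by
    rw [← relIndex_mul_index hQS, index_comap, hp.out.dvd_mul]
    exact fun h => h.elim hi' hi
  refine ⟨Q, hQ, h1, (eq_of_sylow_le (K := π.range) (hQ.map π) (fun h => h1 ?_)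
    (map_le_iff_le_comap.mpr hQS) hSH hS).symm⟩
  rw [← index_comap] at h
  exact h.trans (index_dvd_of_le (le_comap_map π Q))

omit hp in
theorem mult_comap {Γ : Type*} [Group Γ] (π : Γ →* X) {D K : Subgroup X} [Fintype D]
    [Fintype (D.comap π)] (hDK : D ≤ K) (hD : D ≤ π.range) (φ : K → ℂ) (β : D → ℂ) :
    mult (inclusion (comap_mono hDK)) (fun k => φ (π.subgroupComap K k))
      (fun d => β (π.subgroupComap D d)) = mult (inclusion hDK) φ β := by
  unfold mult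
  rw [← classInner_comp_of_surjective _ (subgroupComap_surj π hD)]
  rfl

/-- The core step. -/
theorem core {X : Type u} [Group X] [Finite X] {K H Q N D : Subgroup X} [Fintype D] (hKH : K ≤ H)
    (hK : ¬ p ∣ Nat.card K) (hQ : IsPGroup p Q) (hQH : Q ≤ H) (hi : ¬ p ∣ Q.relIndex H)
    (hN : N = H ⊓ normalizer (Q : Set X)) (hsup : H = K ⊔ N)
    (hD : D = K ⊓ centralizer (Q : Set X)) (hDK : D ≤ K) (hDN : D ≤ N) {φ : K → ℂ}
    (hφ : IsIrrCharacter K φ) (hHφ : H ≤ stab K φ) {β : D → ℂ} (hβ : IsIrrCharacter D β)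
    (h : ¬ p ∣ mult (inclusion hDK) φ β) :
    cnt p 1 (inclusion hKH) φ = cnt p 1 (inclusion hDN) β := by
  obtain ⟨Γ, _, _, a, ha⟩ := exists_acover_coprime hKH hφ hHφ hK
  have hr := a.range
  have hNH : N ≤ H := hN ▸ inf_le_left
  obtain ⟨P, hP, hiP, hPQ⟩ := exists_sylow_lift a.π hQ (hQH.trans hr.ge) (by rwa [hr])
  have h1 := comap_normalizer_map a.π hP hiP
  rw [hPQ, sup_eq_right.mpr (a.central.trans (center_le_normalizer _))] at h1
  have htop : H.comap a.π = ⊤ := eq_top_iff.mpr fun x _ => hr.le ⟨x, rfl⟩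
  have hK' := not_dvd_card_comap a.π ha hK
  have hst : ⊤ ≤ stab (K.comap a.π) (fun k => φ (a.π.subgroupComap K k)) :=
    (htop ▸ comap_mono hHφ : ⊤ ≤ _).trans (comap_le_stab a.π φ)
  have := Fintype.ofFinite (D.comap a.π)
  rw [← cnt_inflate a.π hKH hr.ge rfl htop.symm le_top
      (α' := fun k => φ (a.π.subgroupComap K k)) (fun _ _ e => congrArg φ (Subtype.ext e)),
    ← cnt_inflate a.π hDN (hNH.trans hr.ge) rfl rfl (comap_mono hDN)
      (α' := fun k => β (a.π.subgroupComap D k)) (fun _ _ e => congrArg β (Subtype.ext e))]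
  refine core_ext le_top hK' hP le_top (by rwa [relIndex_top_right]) ?_ ?_ ?_ (comap_mono hDK) _
    (isIrr_comp_of_surjective _ (subgroupComap_surj a.π (hKH.trans hr.ge)) hφ) hst a.μ
    a.top_le_stab (isCharacter_restrict ⊤ a.char) (fun k => a.E_eq k _ rfl)
    (isIrr_comp_of_surjective _ (subgroupComap_surj a.π (hDK.trans (hKH.trans hr.ge))) hβ) ?_
  · rw [hN, comap_inf, htop, h1]
  · rw [comap_sup_eq_of_le_range _ (hKH.trans hr.ge) (hNH.trans hr.ge), ← hsup, htop]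
  · rw [← inf_normalizer_eq hK' hP (le_top.trans (hst.trans (stab_le _ _))), hD,
      ← inf_normalizer_eq hK hQ (hQH.trans (hHφ.trans (stab_le _ _))), comap_inf, h1]
  · rwa [mult_comap a.π hDK (hDK.trans (hKH.trans hr.ge))]

end cover

end CfsgLib.McKay
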