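import Mathlib
import Cfsg.Agent.Lib.McKay.Restrict

/-! The relative equality for odd-degree characters of solvable groups fixed by a power map of
`2`-power order inverting the elements of odd order. -/

set_option autoImplicit false

namespace CfsgLib.McKay

open Cfsg CfsgLib.Char CfsgLib.CharDeep CfsgLib.ChDeg CfsgLib.Glaub CfsgLib.Coprime Subgroup
open scoped ComplexConjugate Pointwise

variable {X : Type*} [Group X]

theorem commutator_sup_lt {L K : Subgroup X} (hK : K ≤ normalizer (L : Set X))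
    (hs : haveI := normal_subgroupOf_of_le_normalizer hK; Group.IsSolvable (K ⧸ L.subgroupOf K))
    (M : Subgroup X) (hLM : L < M) (hMK : M ≤ K) : ⁅M, M⁆ ⊔ L < M := by
  have := normal_subgroupOf_of_le_normalizer hK
  refine lt_of_le_of_ne (sup_le (commutator_le_of_le_normalizer le_normalizer) hLM.le) fun h => ?_
  set M' := (M.subgroupOf K).map (QuotientGroup.mk' (L.subgroupOf K)) with hM'
  have h1 : M' ≠ ⊥ := by
    rw [Ne, hM', Subgroup.map_eq_bot_iff, QuotientGroup.ker_mk']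
    intro h2
    exact hLM.not_ge fun x hx => h2 (show (⟨x, hMK hx⟩ : K) ∈ M.subgroupOf K from hx)
  refine (Group.IsSolvable.commutator_lt_of_ne_bot h1).not_ge ?_
  rintro _ ⟨x, hx, rfl⟩
  have hx' : (x : X) ∈ ⁅M, M⁆ ⊔ L := h.symm ▸ hx
  have hMM : ⁅M, M⁆ ≤ M := commutator_le_of_le_normalizer le_normalizer
  obtain ⟨c, hc, l, hl, e⟩ := (mem_sup_iff_of_le_normalizer' ((hMM.trans hMK).trans hK)).mp hx'
  have hc' : (⟨c, hMK (hMM hc)⟩ : K) ∈ ⁅M.subgroupOf K, M.subgroupOf K⁆ := by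
    have h3 : (⁅M.subgroupOf K, M.subgroupOf K⁆).map K.subtype = ⁅M, M⁆ := by
      rw [map_commutator, map_subgroupOf_eq_of_le hMK]
    obtain ⟨y, hy, e'⟩ := h3.symm ▸ hc
    rwa [← (Subtype.ext e' : y = ⟨c, hMK (hMM hc)⟩)]
  rw [hM', ← map_commutator]
  refine ⟨_, hc', QuotientGroup.eq.mpr ?_⟩
  change c⁻¹ * x ∈ L
  rw [← e, inv_mul_cancel_left]; exact hl

variable [Finite X]

theorem cnt_eq_of_unique {p k e : ℕ} [Fact p.Prime] (hk : k.Coprime (Nat.card X))
    (hke : ∀ g : X, g ^ (k ^ p ^ e) = g) {L K H S : Subgroup X} (hLK : L ≤ K) (hKH : K ≤ H)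
    (hH : H ≤ normalizer (K : Set X)) {ν : L → ℂ} (hν : IsCharacter L ν) (hHν : H ≤ stab L ν)
    (hS : IsPGroup p S) (hSH : S ≤ H) (hi : ¬ p ∣ S.relIndex H) {η : K → ℂ}
    (hη : IsIrrCharacter K η) (ho : Over (inclusion hLK) η ν)
    (hu : ∀ η', IsIrrCharacter K η' → pw k η' = η' → Over (inclusion hLK) η' ν → η' = η) :
    cnt p k (inclusion (hLK.trans hKH)) ν = cnt p k (inclusion hKH) η := by
  refine Nat.card_congr (Equiv.subtypeEquivRight fun χ => and_congr_right fun hg => ⟨fun h => ?_,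
    fun h => Over.trans (fun _ => rfl) (irr_isCharacter χ) hη hν h ho⟩)
  obtain ⟨η₁, hη₁, h1, h2⟩ := Over.exists_between (inclusion hKH) (inclusion hLK) (fun _ => rfl)
    (irr_isCharacter χ) hν h
  obtain ⟨g, hg', hS'⟩ := exists_inv_under hKH hH hS hSH hi χ.2 hg.1 hη₁ h1
  have h1' := (over_cA hKH hg' (hH hg') (irr_isClassFunction χ)).mpr h1
  have h2' := (over_cA_cA hLK (hHν hg').1 (hH hg')).mpr h2
  rw [(cA_eq_self_iff _).mpr (hHν hg')] at h2'
  rwa [hu _ (isIrr_cA _ hη₁)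
    (pw_eq_of_inv_under hk hke hKH hH hS hSH hi χ.2 hg.2 (isIrr_cA _ hη₁) h1' hS') h2'] at h1'

theorem cnt_fixed_eq [Group.IsSolvable X] {k e : ℕ} (hk : k.Coprime (Nat.card X))
    (hke : ∀ g : X, g ^ (k ^ 2 ^ e) = g) (hk₂ : ∀ g : X, Odd (orderOf g) → g ^ k = g⁻¹)
    {S : Subgroup X} (hS : IsPGroup 2 S)
    (L H N : Subgroup X) (hLH : L ≤ H) (hLN : L ≤ N) (ν : L → ℂ) (hν : IsIrrCharacter L ν)
    (hνk : pw k ν = ν) (hH : H ≤ normalizer (L : Set X)) (hSν : S ≤ stab L ν) (hSH : S ≤ H)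
    (hi : ¬ 2 ∣ S.relIndex H) (hN : N = L ⊔ (H ⊓ normalizer (S : Set X))) :
    cnt 2 k (inclusion hLH) ν = cnt 2 k (inclusion hLN) ν := by
  have : Fact (Nat.Prime 2) := ⟨Nat.prime_two⟩
  refine reduce hk hke CfsgLib.PLocal.PSolv.of_isSolvable hS ?_ L H N hLH hLN ν hν hνk hH hSν hSH
    hi hN
  intro L K H N hLK hKH hLN ν hν hνk hHν hHK hSH hi hK hH hN
  have hNH : N ≤ H := hN ▸ sup_le (hLK.trans hKH) inf_le_left
  have hSN : S ≤ N := hN ▸ (le_inf hSH le_normalizer).trans le_sup_right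
  have hodd : Odd (L.relIndex K) := Nat.not_even_iff_odd.mp fun h => hK h.two_dvd
  have hKL : K ≤ normalizer (L : Set X) := (hKH.trans hHν).trans (stab_le L ν)
  have hs := commutator_sup_lt hKL inferInstance
  obtain ⟨η, hη, hην, hηk, hηu⟩ := exists_unique_fixed hk hke hk₂ hν hνk K hLK (hKH.trans hHν)
    hodd hs
  have hLC : L ≤ K ⊓ N := le_inf hLK hLN
  obtain ⟨ζ, hζ, hζν, hζk, hζu⟩ := exists_unique_fixed hk hke hk₂ hν hνk (K ⊓ N) hLC
    ((inf_le_left.trans hKH).trans hHν)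
    (hodd.of_dvd_nat (relIndex_mul_relIndex L (K ⊓ N) K hLC inf_le_left ▸ dvd_mul_right _ _))
    (fun M h1 h2 => hs M h1 (h2.trans inf_le_left))
  have hηo : Over (inclusion hLK) η ν := over_of_res hν one_ne_zero fun m => by rw [hην, one_mul]
  have hζ' : IsIrrCharacter (K ⊓ N : Subgroup X) (fun c => η (inclusion inf_le_left c)) :=
    isIrr_of_comp_isIrr (inclusion hLC) (isCharacter_comp _ (isCharacter_of_isIrr hη))
      (by rw [show (fun m => η (inclusion inf_le_left (inclusion hLC m))) = ν from funext hην]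
          exact hν)
  have hζη : (fun c => η (inclusion (inf_le_left : K ⊓ N ≤ K) c)) = ζ :=
    hζu _ hζ' (funext fun c => congrFun hηk (inclusion inf_le_left c))
      (over_of_res hν one_ne_zero fun m => (hην m).trans (one_mul _).symm)
  have hHη : H ≤ stab K η := fun g hg => (cA_eq_self_iff (hHK hg)).mp
    (hηu _ (isIrr_cA _ hη) (by rw [pw_cA, hηk]) (by
      have := (over_cA_cA hLK (hHν hg).1 (hHK hg)).mpr hηo
      rwa [(cA_eq_self_iff _).mpr (hHν hg)] at this))
  rw [cnt_eq_of_unique hk hke hLK hKH hHK (isCharacter_of_isIrr hν) hHν hS hSH hi hη hηo hηu,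
    cnt_restrict hk hKH hNH (le_antisymm (hH.le.trans (sup_le_sup_left (hN ▸ le_sup_right) K))
      (sup_le hKH hNH)) rfl inf_le_left inf_le_right hHη hη hηk hζ', hζη]
  exact (cnt_eq_of_unique hk hke hLC inf_le_right
    (le_normalizer_inf (hNH.trans hHK) le_normalizer) (isCharacter_of_isIrr hν) (hNH.trans hHν) hS
    hSN (not_dvd_relIndex_left hSN hNH hi) hζ
    (over_of_res hν one_ne_zero fun m => by rw [hζν, one_mul]) hζu).symm

/-- The count over the trivial character of the trivial subgroup. -/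
theorem cnt_bot {p k : ℕ} (H : Subgroup X) :
    cnt p k (inclusion (bot_le : ⊥ ≤ H)) (fun _ => 1) =
      Nat.card {χ : IrrCharacter H // Good p k (χ : H → ℂ)} := by
  refine Nat.card_congr (Equiv.subtypeEquivRight fun χ => and_iff_left ?_)
  refine over_of_res isIrr_one (irr_one_ne_zero χ.2) fun m => ?_
  rw [Subsingleton.elim m 1, map_one, mul_one]

omit [Finite X] in
theorem card_good_top {p k : ℕ} :
    Nat.card {χ : IrrCharacter (⊤ : Subgroup X) // Good p k (χ : (⊤ : Subgroup X) → ℂ)} =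
      Nat.card {χ : IrrCharacter X // Good p k (χ : X → ℂ)} :=
  Nat.card_congr
    { toFun := fun χ => ⟨⟨_, isIrr_comp_mulEquiv topEquiv.symm χ.1.2⟩,
        good_comp_equiv topEquiv.symm χ.2⟩
      invFun := fun χ => ⟨⟨_, isIrr_comp_mulEquiv topEquiv χ.1.2⟩, good_comp_equiv topEquiv χ.2⟩
      left_inv := fun _ => rfl
      right_inv := fun _ => rfl }

end CfsgLib.McKay
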