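import Mathlib
import Cfsg.Agent.Lib.McKay.Core
import Cfsg.Agent.Lib.McKay.Real

/-! The relative McKay equality for `p`-solvable groups. -/

set_option autoImplicit false

namespace CfsgLib.McKay

open Cfsg CfsgLib.Char CfsgLib.CharDeep CfsgLib.ChDeg CfsgLib.Glaub CfsgLib.Coprime Subgroup
open scoped ComplexConjugate Pointwise commutatorElement

universe u

variable {X : Type u} [Group X] [Finite X] {p : ℕ} [hp : Fact p.Prime]

omit hp in
theorem over_of_over_of_le_stab {L C K : Subgroup X} (hLC : L ≤ C) (hCK : C ≤ K) {ν : L → ℂ}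
    (hν : IsIrrCharacter L ν) (hK : K ≤ stab L ν) {η : K → ℂ} (hη : IsIrrCharacter K η)
    (h : Over (inclusion (hLC.trans hCK)) η ν) {β : C → ℂ} (hβ : IsIrrCharacter C β)
    (h' : Over (inclusion hCK) η β) : Over (inclusion hLC) β ν := by
  obtain ⟨c, -, hc⟩ := exists_res_eq (hLC.trans hCK) hK hη hν h
  obtain ⟨ν', hν', h1⟩ := exists_under (inclusion hLC) hβ
  rwa [Over.eq_of_res hν hν' hc (Over.trans (fun _ => rfl) (isCharacter_of_isIrr hη) hβ
    (isCharacter_of_isIrr hν') h' h1)]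

omit [Finite X] hp in
theorem over_of_not_dvd_mult {G C : Type*} [Group G] [Group C] [Fintype C] {ι : C →* G}
    {χ : G → ℂ} {β : C → ℂ} (hχ : IsIrrCharacter G χ) (hβ : IsIrrCharacter C β)
    (h : ¬ p ∣ mult ι χ β) : Over ι χ β :=
  (over_iff_mult (isCharacter_of_isIrr hχ) (isCharacter_of_isIrr hβ)).mpr fun e => h (by simp [e])

theorem inf_stab_glauberman {K S C N : Subgroup X} [Fintype C] (hS : IsPGroup p S)
    (hK : ¬ p ∣ Nat.card K) (hC : C = K ⊓ centralizer (S : Set X)) (hCK : C ≤ K)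
    (hNK : N ≤ normalizer (K : Set X)) (hNS : N ≤ normalizer (S : Set X))
    (hNC : N ≤ normalizer (C : Set X)) {η : K → ℂ} (hη : IsIrrCharacter K η) (hSη : S ≤ stab K η)
    {β : C → ℂ} (hβ : IsIrrCharacter C β) (h : ¬ p ∣ mult (inclusion hCK) η β) :
    N ⊓ stab K η = N ⊓ stab C β := by
  refine le_antisymm (fun g hg => ⟨hg.1, mem_stab_glauberman hS hK hC hCK hη hSη hβ h hg.2
    (hNC hg.1)⟩) (fun g hg => ⟨hg.1, (cA_eq_self_iff (hNK hg.1)).mp ?_⟩)
  refine glauberman_inj hS hK hC hCK (isIrr_cA _ hη) (fun x hx => mem_stab_cA _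
    (hSη ((mem_normalizer_iff.mp (hNS hg.1) x).mp hx))) hη hSη hβ ?_ h
  rwa [← mult_cA_cA hCK (hNC hg.1) (hNK hg.1), (cA_eq_self_iff _).mpr hg.2] at h

theorem final_coprime {L K H S N : Subgroup X} (hLK : L ≤ K) (hKH : K ≤ H)
    (hK : ¬ p ∣ Nat.card K) (hH : H ≤ normalizer (K : Set X)) (hS : IsPGroup p S) (hSH : S ≤ H)
    (hi : ¬ p ∣ S.relIndex H) (hN : N = H ⊓ normalizer (S : Set X)) (hsup : H = K ⊔ N)
    (hLS : L ≤ centralizer (S : Set X)) (hLN : L ≤ N) {ν : L → ℂ} (hν : IsIrrCharacter L ν)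
    (hHν : H ≤ stab L ν) :
    cnt p 1 (inclusion (hLK.trans hKH)) ν = cnt p 1 (inclusion hLN) ν := by
  classical
  have hNH : N ≤ H := hN ▸ inf_le_left
  have hNS : N ≤ normalizer (S : Set X) := hN ▸ inf_le_right
  have hSN : S ≤ N := hN ▸ le_inf hSH le_normalizer
  obtain ⟨C, hC⟩ : ∃ C, C = K ⊓ centralizer (S : Set X) := ⟨_, rfl⟩
  have hC' : C = K ⊓ N := by
    rw [hC, hN, ← inf_assoc, inf_eq_left.mpr hKH, inf_normalizer_eq hK hS (hSH.trans hH)]
  have hCK : C ≤ K := hC ▸ inf_le_left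
  have hCN : C ≤ N := hC' ▸ inf_le_right
  have hLC : L ≤ C := hC ▸ le_inf hLK hLS
  have hNC : N ≤ normalizer (C : Set X) := hC' ▸ McKay.le_normalizer_inf (hNH.trans hH)
  have hSC : S ≤ centralizer (C : Set X) := le_centralizer_iff.mp (hC ▸ inf_le_right)
  have := Fintype.ofFinite C
  have := Fintype.ofFinite (Adm 1 hLK ν S)
  have := Fintype.ofFinite (Adm 1 hLC ν S)
  have hke : ∀ g : X, g ^ (1 ^ p ^ 0) = g := fun g => by simp
  have h1 := cnt_orbit (Nat.coprime_one_left _) hke hLK hKH hH (isCharacter_of_isIrr hν) hHν hS hSH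
    hi hN
  have h2 := cnt_orbit (Nat.coprime_one_left _) hke hLC hCN hNC (isCharacter_of_isIrr hν)
    (hNH.trans hHν) hS hSN (not_dvd_relIndex_left hSN hNH hi) (inf_eq_left.mpr hNS).symm
  obtain ⟨e, he⟩ := glauberman_amb hS (hSH.trans hH) hK hC hCK
  let F : Adm 1 hLK ν S → Adm 1 hLC ν S := fun η => ⟨e ⟨η.1, η.2.2.1⟩,
    over_of_over_of_le_stab hLC hCK hν (hKH.trans hHν) η.1.2 η.2.1 (e _).2
      (over_of_not_dvd_mult η.1.2 (e _).2 ((he ⟨η.1, η.2.2.1⟩ _).mp rfl)),
    hSC.trans (centralizer_le_stab _ _), pw_one _⟩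
  have hF : Function.Bijective F := ⟨fun a b h => Subtype.ext
    (Subtype.mk.inj (e.injective (congrArg Subtype.val h))), fun β =>
    ⟨⟨(e.symm β.1).1, Over.trans (fun _ => rfl) (irr_isCharacter _) β.1.2 (isCharacter_of_isIrr hν)
      (over_of_not_dvd_mult (e.symm β.1).1.2 β.1.2 ((he _ _).mp (e.apply_symm_apply _).symm))
      β.2.1, (e.symm β.1).2, pw_one _⟩, Subtype.ext (e.apply_symm_apply _)⟩⟩
  refine Nat.eq_of_mul_eq_mul_right (Nat.card_pos (α := N)) (h1.trans (Eq.trans ?_ h2.symm))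
  refine Fintype.sum_bijective F hF _ _ fun η => ?_
  have hm : ¬ p ∣ mult (inclusion hCK) η.1 (F η).1 := (he ⟨η.1, η.2.2.1⟩ _).mp rfl
  have h3 := inf_stab_glauberman hS hK hC hCK (hNH.trans hH) hNS hNC η.1.2 η.2.2.1 (F η).1.2 hm
  rw [h3]
  congr 1
  have hKT : K ≤ H ⊓ stab K η.1 := le_inf hKH (le_stab (irr_isClassFunction _))
  have hCT : C ≤ N ⊓ stab C (F η).1 := le_inf hCN (le_stab (irr_isClassFunction _))
  have hST : S ≤ H ⊓ stab K η.1 := le_inf hSH η.2.2.1
  rw [cntA_clifford hp.out (Nat.coprime_one_left _) hKH hH η.1.2 (pw_one _) rfl hKT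
      (not_dvd_relIndex_right hST inf_le_left hi),
    cntA_clifford hp.out (Nat.coprime_one_left _) hCN hNC (F η).1.2 (pw_one _) rfl hCT
      (not_dvd_relIndex_right (le_inf hSN (F η).2.2.1) inf_le_left
        (not_dvd_relIndex_left hSN hNH hi))]
  refine core hKT hK hS hST (not_dvd_relIndex_left hST inf_le_left hi) ?_ ?_ hC hCK hCT η.1.2
    inf_le_right (F η).1.2 hm
  · rw [← h3, hN, inf_right_comm]
  · rw [← h3, ← sup_inf_dedekind (hNH.trans hH) (le_stab (irr_isClassFunction _)), ← hsup]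

omit hp in
theorem relIndex_sup_dvd_card {L S : Subgroup X} (hS : S ≤ normalizer (L : Set X)) :
    L.relIndex (L ⊔ S) ∣ Nat.card S := by
  have h1 := relIndex_mul_relIndex ⊥ L (L ⊔ S) bot_le le_sup_left
  have h2 := relIndex_mul_relIndex ⊥ S (L ⊔ S) bot_le le_sup_right
  have h3 := relIndex_mul_relIndex ⊥ (S ⊓ L) L bot_le inf_le_right
  rw [relIndex_sup_eq hS, ← h1, ← h3, inf_relIndex_right, relIndex_bot_left, mul_right_comm] at h2
  exact ⟨_, (Nat.eq_of_mul_eq_mul_right (Nat.pos_of_ne_zero index_ne_zero_of_finite) h2).trans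
    (mul_comm _ _)⟩

theorem exists_ext_of_cnt_ne_zero {L S Y : Subgroup X} (hLY : L ≤ Y) (hS : IsPGroup p S)
    (hSY : S ≤ Y) {ν : L → ℂ} (hν : IsIrrCharacter L ν) (hY : Y ≤ stab L ν)
    (h : cnt p 1 (inclusion hLY) ν ≠ 0) : ¬ p ∣ charDegree ν ∧ ∃ η : (L ⊔ S : Subgroup X) → ℂ,
      IsCharacter _ η ∧ ∀ l, η (inclusion le_sup_left l) = ν l := by
  obtain ⟨⟨χ, hχ, ho⟩⟩ := (Nat.card_ne_zero.mp h).1
  have hT : L ⊔ S ≤ Y := sup_le hLY hSY
  have := Fintype.ofFinite (L ⊔ S : Subgroup X)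
  have h1 : ∃ ψ, IsIrrCharacter (L ⊔ S : Subgroup X) ψ ∧ Over (inclusion hT) χ ψ ∧
      ¬ p ∣ charDegree ψ := by
    by_contra hc
    push Not at hc
    apply hχ.1
    rw [← deg_comp (inclusion hT)]
    exact dvd_deg_of_forall (isCharacter_comp _ (irr_isCharacter χ)) fun ψ hψ h =>
      hc ψ hψ (over_iff.mpr h)
  obtain ⟨ψ, hψ, h1, h2⟩ := h1
  have h3 := over_of_over_of_le_stab le_sup_left hT hν hY χ.2 ho hψ h1
  obtain ⟨e, he, h4⟩ := exists_deg_eq le_sup_left (hT.trans (hY.trans (stab_le _ _))) hψ hν h3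
  rw [h4, hp.out.dvd_mul, not_or] at h2
  have h5 : e = 1 := Nat.eq_one_of_dvd_coprimes (coprime_of_isPGroup hS h2.1)
    (he.trans (relIndex_sup_dvd_card (hSY.trans (hY.trans (stab_le _ _))))) dvd_rfl
  obtain ⟨c, -, hc⟩ := exists_res_eq le_sup_left (hT.trans hY) hψ hν h3
  have h6 := hc 1
  rw [map_one, ← deg_cast (isCharacter_of_isIrr hψ), h4, h5, one_mul,
    deg_cast (isCharacter_of_isIrr hν), eq_comm, mul_eq_right₀ (irr_one_ne_zero hν)] at h6
  exact ⟨h2.2, ψ, isCharacter_of_isIrr hψ, fun l => by rw [hc, h6, one_mul]⟩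

omit [Finite X] in
theorem ACover.cnt_eq {L H : Subgroup X} {ν : L → ℂ} (hν : IsIrrCharacter L ν)
    (hd : ¬ p ∣ charDegree ν) {Γ : Type*} [Group Γ] [Finite Γ] (a : ACover L H ν Γ)
    {Δ : Type*} [Group Δ] {q : Γ →* Δ} (hq : Function.Surjective q) {Y : Subgroup X} (hLY : L ≤ Y)
    (hYH : Y ≤ H) {A B : Subgroup Δ} (hAB : A ≤ B) (hA : L.comap a.π = A.comap q)
    (hB : Y.comap a.π = B.comap q) (l : A →* ℂˣ)
    (hl : ∀ (x : L.comap a.π) (y : A), q x = y → a.μ x = l y) :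
    cnt p 1 (inclusion hLY) ν = cnt p 1 (inclusion hAB) (fun y => (l y⁻¹ : ℂ)) := by
  have hr := a.range
  have hLY' : L.comap a.π ≤ Y.comap a.π := comap_mono hLY
  have := normal_range hLY' (le_top.trans (a.top_le_stab.trans (stab_le _ _)))
  rw [← cnt_inflate a.π hLY (hYH.trans hr.ge) rfl rfl hLY'
      (α' := fun k => ν (a.π.subgroupComap L k)) (fun _ _ e => congrArg ν (Subtype.ext e)),
    cnt_gallagherH hp.out (inclusion_injective hLY')
      (isIrr_comp_of_surjective _ (subgroupComap_surj a.π (hLY.trans (hYH.trans hr.ge))) hν)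
      (by rwa [deg_comp]) a.μ (invH_of_le_stab hLY' (le_top.trans a.top_le_stab))
      (isCharacter_restrict _ a.char) (fun k => a.E_eq k _ rfl)]
  exact cnt_inflate q hAB (le_top.trans (MonoidHom.range_eq_top.mpr hq).ge) hA hB hLY'
    (fun x y e => by rw [hl x⁻¹ y⁻¹ (by simp [e])]) p

theorem final {S : Subgroup X} (hS : IsPGroup p S) (L K H N : Subgroup X) (hLK : L ≤ K)
    (hKH : K ≤ H) (hLN : L ≤ N) (ν : L → ℂ) (hν : IsIrrCharacter L ν) (hHν : H ≤ stab L ν)
    (hHK : H ≤ normalizer (K : Set X)) (hSH : S ≤ H) (hi : ¬ p ∣ S.relIndex H)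
    (hK : ¬ p ∣ L.relIndex K) (hH : H = K ⊔ (H ⊓ normalizer (S : Set X)))
    (hN : N = L ⊔ (H ⊓ normalizer (S : Set X))) :
    cnt p 1 (inclusion (hLK.trans hKH)) ν = cnt p 1 (inclusion hLN) ν := by
  have hLH := hLK.trans hKH
  have hNH : N ≤ H := hN ▸ sup_le hLH inf_le_left
  have hSN : S ≤ N := hN ▸ (le_inf hSH le_normalizer).trans le_sup_right
  by_contra hne
  obtain ⟨hd, η, hη, hην⟩ : ¬ p ∣ charDegree ν ∧ ∃ η : (L ⊔ S : Subgroup X) → ℂ,
      IsCharacter _ η ∧ ∀ l, η (inclusion le_sup_left l) = ν l := by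
    by_cases h0 : cnt p 1 (inclusion hLH) ν = 0
    · exact exists_ext_of_cnt_ne_zero hLN hS hSN hν (hNH.trans hHν) fun h => hne (h0.trans h.symm)
    · exact exists_ext_of_cnt_ne_zero hLH hS hSH hν hHν h0
  obtain ⟨Γ, _, _, a, ha⟩ := exists_acover_of_ext le_sup_left (sup_le hLH hSH) hν hHν
    (not_dvd_relIndex_right le_sup_right (sup_le hLH hSH) hi) hη hην
  have hr := a.range
  have := a.normal
  obtain ⟨P, hP, hiP, hPS⟩ := exists_sylow_lift a.π hS (hSH.trans hr.ge) (by rwa [hr])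
  have h1 := comap_normalizer_map a.π hP hiP
  rw [hPS, sup_eq_right.mpr (a.central.trans (center_le_normalizer _))] at h1
  have htop : H.comap a.π = ⊤ := eq_top_iff.mpr fun x _ => hr.le ⟨x, rfl⟩
  let q := QuotientGroup.mk' a.R
  have hq : Function.Surjective q := QuotientGroup.mk'_surjective _
  have hker : q.ker = a.R := QuotientGroup.ker_mk' _
  have hRL : q.ker ≤ L.comap a.π := by rw [hker, a.sup]; exact le_sup_right
  have h2 := comap_normalizer_map q hP hiP
  have hNq : N.comap a.π = (normalizer (P.map q : Set (Γ ⧸ a.R))).comap q := by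
    rw [h2, hN, ← comap_sup_eq_of_le_range _ (hLH.trans hr.ge) (inf_le_left.trans hr.ge), comap_inf,
      htop, top_inf_eq, h1, a.sup, hker, sup_right_comm,
      sup_eq_right.mpr (a.central.trans (center_le_normalizer _)), sup_comm]
  have hL : (L.comap a.π).map q = a.π.ker.map q := by
    rw [a.sup, Subgroup.map_sup, (map_eq_bot_iff a.R).mpr hker.ge, sup_bot_eq]
  have hc : (L.comap a.π).map q ≤ center _ := by
    rw [hL]
    rintro _ ⟨z, hz, rfl⟩
    refine mem_center_iff.mpr fun g => ?_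
    obtain ⟨g, rfl⟩ := hq g
    rw [← map_mul, mem_center_iff.mp (a.central hz) g, map_mul]
  obtain ⟨l, hl₀⟩ : ∃ l : (L.comap a.π).map q →* ℂˣ, ∀ x, l (q.subgroupMap _ x) = a.μ x :=
    ⟨_, MonoidHom.liftOfRightInverse_comp_apply _ _
      (Function.rightInverse_surjInv (q.subgroupMap_surjective (L.comap a.π)))
      ⟨a.μ, fun x hx => a.μ_R x (hker.le (congrArg Subtype.val hx))⟩⟩
  have hl : ∀ (x : L.comap a.π) (y : (L.comap a.π).map q), q x = y → a.μ x = l y := fun x y e => by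
    rw [show y = q.subgroupMap _ x from Subtype.ext e.symm, hl₀]
  have hLN' : (L.comap a.π).map q ≤ normalizer (P.map q : Set (Γ ⧸ a.R)) :=
    hc.trans (center_le_normalizer _)
  have hKn : (K.comap a.π).Normal := normalizer_eq_top_iff.mp
    (eq_top_iff.mpr ((htop.ge.trans (comap_mono hHK)).trans (le_normalizer_comap _)))
  apply hne
  rw [a.cnt_eq hν hd hq hLH le_rfl le_top (comap_map_eq_self hRL).symm (by rw [htop, comap_top]) l
    hl, a.cnt_eq hν hd hq hLN hNH hLN' (comap_map_eq_self hRL).symm hNq l hl]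
  refine final_coprime (K := (K.comap a.π).map q) (map_mono (comap_mono hLK)) le_top ?_
    (normalizer_eq_top_iff.mpr (hKn.map q hq)).ge (hP.map q) le_top ?_ (top_inf_eq _).symm ?_
    (hc.trans (center_le_centralizer _)) hLN' (isIrr_units_inv l)
    (le_top.trans ((centralizer_eq_top_iff_subset.mpr hc).ge.trans (centralizer_le_stab _ _)))
  · rw [← relIndex_ker, ← relIndex_mul_relIndex _ _ _ hRL (comap_mono hLK), relIndex_ker, hL,
      relIndex_comap, map_comap_eq_self (hKH.trans hr.ge), hp.out.dvd_mul]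
    exact fun h => h.elim (fun h => ha (h.trans (card_map_dvd _ _))) hK
  · rw [relIndex_top_right]
    exact fun h => hiP (h.trans (index_map_dvd P hq))
  · refine comap_injective hq (le_antisymm ?_ (comap_mono le_top))
    rw [← comap_sup_eq _ _ _ hq, ← hNq, comap_top, ← htop]
    refine le_trans ?_ (sup_le_sup_right (le_comap_map q _) _)
    rw [comap_sup_eq_of_le_range _ (hKH.trans hr.ge) (hNH.trans hr.ge)]
    exact comap_mono (hH.le.trans (sup_le_sup_left (hN ▸ le_sup_right) K))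

/-- The relative McKay equality inside a `p`-solvable group. -/
theorem mckay_rel (hX : IsPSolvable p X) {S : Subgroup X} (hS : IsPGroup p S)
    (L H N : Subgroup X) (hLH : L ≤ H) (hLN : L ≤ N) (ν : L → ℂ) (hν : IsIrrCharacter L ν)
    (hH : H ≤ normalizer (L : Set X)) (hSν : S ≤ stab L ν) (hSH : S ≤ H)
    (hi : ¬ p ∣ S.relIndex H) (hN : N = L ⊔ (H ⊓ normalizer (S : Set X))) :
    cnt p 1 (inclusion hLH) ν = cnt p 1 (inclusion hLN) ν :=
  reduce (e := 0) (Nat.coprime_one_left _) (fun g => by simp) hX hS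
    (fun L K H N hLK hKH hLN ν hν _ => final hS L K H N hLK hKH hLN ν hν) L H N hLH hLN ν hν
    (pw_one _) hH hSν hSH hi hN

/-- The McKay equality for `p`-solvable groups. -/
theorem mckay (hX : IsPSolvable p X) (S : Sylow p X) :
    Nat.card {χ : IrrCharacter X // ¬ p ∣ charDegree (χ : X → ℂ)} =
      Nat.card {χ : IrrCharacter (normalizer ((S : Subgroup X) : Set X)) //
        ¬ p ∣ charDegree (χ : normalizer ((S : Subgroup X) : Set X) → ℂ)} := by
  have h := mckay_rel hX S.isPGroup' ⊥ ⊤ (normalizer ((S : Subgroup X) : Set X)) bot_le bot_le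
    (fun _ => 1) isIrr_one (normalizer_eq_top ⊥).ge
    (fun g _ => ⟨(normalizer_eq_top ⊥).ge trivial, fun _ _ _ => rfl⟩) le_top
    (by rw [relIndex_top_right]; exact S.not_dvd_index) (by simp)
  rw [cnt_bot, cnt_bot, card_good_top] at h
  simpa only [good_one] using h

end CfsgLib.McKay
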