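import Mathlib
import Cfsg.Agent.Lib.McKay.Isaacs
import Cfsg.Agent.Lib.Block.DefZero
import Cfsg.Agent.Lib.PComp.Residual
import Cfsg.Agent.Lib.Core.MinNormal
import Cfsg.Agent.S4519

/-! Groups whose real irreducible characters have degrees prime to `p`. -/

set_option autoImplicit false

namespace CfsgLib.McKay

open Cfsg CfsgLib.Char CfsgLib.CharDeep CfsgLib.ChDeg CfsgLib.Glaub CfsgLib.Coprime CfsgLib.Block CfsgLib.PComp
  Subgroup
open scoped ComplexConjugate Pointwise commutatorElement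

universe u

/-- All real irreducible characters have degree prime to `p`. -/
def RD (p : ℕ) (G : Type*) [Group G] : Prop :=
  ∀ χ : IrrCharacter G, (∀ g, ((χ : G → ℂ) g).im = 0) → ¬ p ∣ charDegree (χ : G → ℂ)

variable {G : Type*} [Group G] [Finite G] {p : ℕ}

omit [Finite G] in
theorem closure_eq_pec (p : ℕ) :
    closure {g : G | ∃ k : ℕ, orderOf g = p ^ k} = pElementClosure p ⊤ := by
  simp [pElementClosure]

omit [Finite G] in
theorem RD.of_surjective {Q : Type*} [Group Q] (h : RD p G) (f : G →* Q)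
    (hf : Function.Surjective f) : RD p Q := fun χ hχ => by
  have := h ⟨_, isIrr_comp_of_surjective f hf χ.2⟩ fun g => hχ _
  rwa [deg_comp] at this

theorem real_iff_inv {χ : G → ℂ} (hχ : IsCharacter G χ) :
    (∀ g, (χ g).im = 0) ↔ ∀ g, χ g⁻¹ = χ g := by
  simp only [char_inv hχ, Complex.conj_eq_iff_im]

theorem exists_pow_eq_inv (G : Type*) [Group G] [Finite G] : ∃ k : ℕ, k.Coprime (Nat.card G) ∧
    k ^ 2 ^ 1 ≡ 1 [MOD Nat.card G] ∧ ∀ g : G, g ^ k = g⁻¹ := by
  obtain ⟨n, hn⟩ : ∃ n, Nat.card G = n + 1 := ⟨_, (Nat.succ_pred_eq_of_pos Nat.card_pos).symm⟩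
  refine ⟨n, by rw [hn]; simp, ?_, fun g => by
    rw [eq_inv_iff_mul_eq_one, ← pow_succ, ← hn, pow_card_eq_one']⟩
  rw [hn, pow_one]
  refine (Nat.modEq_iff_dvd).mpr ⟨1 - n, ?_⟩
  push_cast; ring

/-- The unique real character over a real character of a normal subgroup of odd index. -/
theorem exists_real_over (N : Subgroup G) [N.Normal] (hodd : Odd N.index) {θ : N → ℂ}
    (hθ : IsIrrCharacter N θ) (hr : ∀ n, (θ n).im = 0) : ∃ χ, IsIrrCharacter G χ ∧
      Over N.subtype χ θ ∧ (∀ g, (χ g).im = 0) ∧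
      ((∀ g n, θ (cj N g n) = θ n) → ∀ n : N, χ n = θ n) ∧ ∀ χ', IsIrrCharacter G χ' →
        Over N.subtype χ' θ → (∀ g, (χ' g).im = 0) → χ' = χ := by
  have := Fintype.ofFinite G
  have := Fintype.ofFinite N
  obtain ⟨k, h1, h2, hk⟩ := exists_pow_eq_inv G
  obtain ⟨χ, ⟨h3, h4, h5⟩, h6⟩ := Cfsg.Agent.S4519.result N hodd k 1 h1 h2 (fun g _ => hk g) ⟨θ, hθ⟩
    (fun m => by
      rw [show m ^ k = m⁻¹ from Subtype.ext (hk m)]
      exact (real_iff_inv (isCharacter_of_isIrr hθ)).mp hr m)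
  exact ⟨χ, χ.2, over_iff.mpr h3, (real_iff_inv (irr_isCharacter χ)).mpr fun g => hk g ▸ h4 g, h5,
    fun χ' hχ' h h' => congrArg Subtype.val (h6 ⟨χ', hχ'⟩ (over_iff.mp h :) fun g => by
      rw [hk]; exact (real_iff_inv (isCharacter_of_isIrr hχ')).mp h' g)⟩

theorem RD.normal (h : RD p G) (N : Subgroup G) [N.Normal] (hodd : Odd N.index) : RD p N :=
  fun θ hθ hd => by
    have := Fintype.ofFinite N
    obtain ⟨χ, hχ, h1, h2, -⟩ := exists_real_over N hodd θ.2 hθ
    exact h ⟨χ, hχ⟩ h2 (hd.trans (deg_dvd_of_over N hχ θ.2 (over_iff.mp h1 :)))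

theorem sqrtN_mul {x : G} (h : ∀ χ : IrrCharacter G, (∀ g, ((χ : G → ℂ) g).im = 0) →
    (χ : G → ℂ) x = (χ : G → ℂ) 1) (g : G) : sqrtN (x * g) = sqrtN g := by
  have := Fintype.ofFinite G
  refine Nat.cast_injective (R := ℂ) ?_
  rw [sqrtN_eq_sum, sqrtN_eq_sum]
  refine Finset.sum_congr rfl fun χ _ => ?_
  by_cases h0 : fsInd (χ : G → ℂ) = 0
  · simp [h0]
  · rw [char_mul_of_eq_one (irr_isCharacter χ) (h χ (by simpa [fsInd_eq_zero_iff χ.2] using h0))]

theorem eq_one_of_inverted {x t : G} {k : ℕ} (hx : Odd (orderOf x)) (ht : t ^ 2 ^ k = 1)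
    (htx : t * x * t⁻¹ = x⁻¹) (h : ∀ χ : IrrCharacter G, (∀ g, ((χ : G → ℂ) g).im = 0) →
      (χ : G → ℂ) x = (χ : G → ℂ) 1) : x = 1 := by
  have hc : Commute x (t * t) := by
    have h1 : t * x⁻¹ * t⁻¹ = x := by rw [← conj_inv, htx, inv_inv]
    calc x * (t * t) = t * (t * x * t⁻¹) * t⁻¹ * (t * t) := by rw [htx, h1]
      _ = _ := by group
  have h1 : ∀ y : G, y * y = x * (t * t) → Commute y x := fun y hy => by
    refine mem_centralizer_singleton_iff.mp (mem_of_pow_coprime (H := centralizer {y})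
      (Nat.Coprime.pow_left k (Nat.coprime_two_left.mpr hx)) ?_ (by simp)) |>.symm
    have h2 : x ^ 2 ^ k = (y * y) ^ 2 ^ k := by
      rw [hy, hc.mul_pow, (Commute.refl t).mul_pow, ht, one_mul, mul_one]
    rw [h2]
    exact pow_mem (mem_centralizer_singleton_iff.mpr (mul_assoc _ _ _)) _
  obtain ⟨m, hm⟩ := hx
  have h2 : x ^ m * x ^ m * x = 1 := by rw [← pow_add, ← two_mul, ← pow_succ, ← hm, pow_orderOf_eq_one]
  let f : {y : G // y * y = x * (t * t)} → {y : G // y * y = t * t} := fun y => ⟨x ^ m * y, by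
    rw [mul_assoc, ← mul_assoc y.1, ((h1 y y.2).pow_right m).eq, mul_assoc, y.2, ← mul_assoc,
      ← mul_assoc, h2, one_mul]⟩
  have hf : Function.Injective f := fun y y' e => Subtype.ext (mul_left_cancel (congrArg Subtype.val e))
  obtain ⟨y, hy⟩ := (hf.bijective_of_nat_card_le (sqrtN_mul h _).ge).2 ⟨t, rfl⟩
  have h3 := ((Commute.refl x).pow_left m).mul_left (h1 y y.2)
  rw [show x ^ m * y = t from congrArg Subtype.val hy] at h3
  rw [h3.eq, mul_inv_cancel_right, eq_inv_iff_mul_eq_one] at htx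
  rwa [← (Commute.refl x).mul_pow, htx, one_pow, one_mul] at h2

theorem pec_two_le_centralizer (M : Subgroup G) [hM : M.Normal] (hodd : Odd (Nat.card M))
    (h : ∀ χ : IrrCharacter G, (∀ g, ((χ : G → ℂ) g).im = 0) → ∀ x ∈ M,
      (χ : G → ℂ) x = (χ : G → ℂ) 1) : pElementClosure 2 ⊤ ≤ centralizer (M : Set G) := by
  have key : ∀ (k : ℕ) (t : G), t ^ 2 ^ k = 1 → t ∈ centralizer (M : Set G) := fun k => by
    induction k with
    | zero => intro t ht; rw [pow_zero, pow_one] at ht; exact ht ▸ one_mem _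
    | succ k ih =>
      intro t ht m hm
      have h1 := ih (t * t) (by rwa [← pow_two, ← pow_mul, ← pow_succ']) m hm
      have h2 : m⁻¹ * (t * m * t⁻¹) ∈ M := M.mul_mem (M.inv_mem hm) (hM.conj_mem m hm t)
      have h3 := eq_one_of_inverted (hodd.of_dvd_nat (orderOf_dvd_natCard M h2)) ht (by
        calc _ = t * m⁻¹ * t⁻¹ * ((t * t) * m) * t⁻¹ * t⁻¹ := by group
          _ = _ := by rw [← h1]; group) fun χ hχ => h χ hχ _ h2
      rw [inv_mul_eq_one] at h3
      rw [eq_mul_inv_iff_mul_eq.mp h3]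
  exact pec_le_iff.mpr fun t _ k hk => key k t (hk ▸ pow_orderOf_eq_one t)

theorem eq_of_le_commutator {χ : G → ℂ} (hχ : IsIrrCharacter G χ) (hd : ¬ p ∣ charDegree χ)
    {W : Subgroup G} (hW : ∀ ψ, IsIrrCharacter W ψ → ¬ p ∣ charDegree ψ → charDegree ψ = 1)
    (M : Subgroup G) [M.Normal] (hM : M ≤ ⁅W, W⁆) : ∀ z ∈ M, χ z = χ 1 := by
  have := Fintype.ofFinite W
  obtain ⟨ψ, hψ, h1, h2⟩ : ∃ ψ, IsIrrCharacter W ψ ∧ Over W.subtype χ ψ ∧ ¬ p ∣ charDegree ψ := by
    by_contra hc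
    push Not at hc
    apply hd
    rw [← deg_comp W.subtype]
    exact dvd_deg_of_forall (isCharacter_comp _ (isCharacter_of_isIrr hχ)) fun ψ hψ h =>
      hc ψ hψ (over_iff.mpr h)
  refine ker_le_of_over M (fun z hz => ?_) hχ h1
  obtain ⟨m, hm, rfl⟩ := (map_subtype_commutator W).ge (hM hz)
  exact ⟨m, rfl, (irr_one_eq_one_iff hψ).mp
    ((deg_eq_one_iff (isCharacter_of_isIrr hψ)).mp (hW ψ hψ h2)) hm⟩

theorem false_of_compl_two {N H : Subgroup G} [hN : N.Normal] (hsup : N ⊔ H = ⊤) (hinf : N ⊓ H = ⊥)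
    {x : G} (hx : x ∈ N) (hx1 : x ≠ 1) (hx2 : x * x = 1)
    (h : ∀ χ : IrrCharacter G, (∀ g, ((χ : G → ℂ) g).im = 0) → ∀ x ∈ N,
      (χ : G → ℂ) x = (χ : G → ℂ) 1) : False := by
  have := Fintype.ofFinite N
  choose a ha b hb hab using fun y : G => mem_sup_of_normal_left.mp (hsup.ge (mem_top y))
  have h0 : ∀ y ∈ H, y ∈ N → y = 1 := fun y h1 h2 => mem_bot.mp (hinf.le ⟨h2, h1⟩)
  have h2 : ∀ y : G, y * y ∈ N → b y * b y ∈ N := fun y hy => by
    have h1 := N.mul_mem (N.inv_mem (N.mul_mem (ha y) (hN.conj_mem _ (ha y) (b y)))) hy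
    rwa [show y * y = a y * b y * (a y * b y) by rw [hab], show ∀ u v : G,
      (u * (v * u * v⁻¹))⁻¹ * (u * v * (u * v)) = v * v from fun u v => by group] at h1
  let f : (Σ n : N, {y : G // y * y = n}) → N × {y : {y : G // y * y = 1} // y ≠ ⟨x, hx2⟩} :=
    fun y => (⟨a y.2, ha _⟩, ⟨⟨b y.2, h0 _ (H.mul_mem (hb _) (hb _))
      (h2 _ (by rw [y.2.2]; exact y.1.2))⟩, fun e => by
        have e' : b y.2 = x := congrArg Subtype.val e
        exact hx1 (h0 x (e' ▸ hb _) hx)⟩)
  have hf : Function.Injective f := by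
    rintro ⟨n, y, hy⟩ ⟨n', y', hy'⟩ e
    obtain rfl : y = y' := by
      rw [← hab y, ← hab y', show a y = a y' from congrArg (fun z => (z.1 : G)) e,
        show b y = b y' from congrArg (fun z => (z.2 : G)) e]
    obtain rfl : n = n' := Subtype.ext (hy.symm.trans hy')
    rfl
  have h1 := Nat.card_le_card_of_injective f hf
  rw [Nat.card_sigma, Nat.card_prod, Finset.sum_congr rfl (g := fun _ => sqrtN (1 : G)) fun n _ => by
    simpa [sqrtN] using sqrtN_mul (fun χ hχ => h χ hχ n n.2) 1] at h1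
  simp only [Finset.sum_const, Finset.card_univ, smul_eq_mul, ← Nat.card_eq_fintype_card] at h1
  exact absurd (Nat.le_of_mul_le_mul_left h1 Nat.card_pos)
    (not_le.mpr (Finite.card_subtype_lt (x := ⟨x, hx2⟩) (not_not.mpr rfl)))

theorem sylow_normal_aux [hp : Fact p.Prime] (n : ℕ) : ∀ (G : Type u) [Group G] [Finite G],
    Nat.card G = n → Group.IsSolvable (pElementClosure p (⊤ : Subgroup G)) → RD p G →
    ∀ P : Sylow p G, pElementClosure 2 ⊤ ⊔ (P : Subgroup G) = ⊤ → (P : Subgroup G).Normal := by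
  induction n using Nat.strong_induction_on with
  | _ n ih =>
  intro G _ _ hn hs hr P hP
  have := pec_normal (p := p) (⊤ : Subgroup G)
  have := pec_normal (p := 2) (⊤ : Subgroup G)
  have hPL := le_pec_of_isPGroup P.isPGroup' le_top
  by_cases hL : pElementClosure p (⊤ : Subgroup G) = ⊥
  · rw [le_bot_iff.mp (hPL.trans hL.le)]; infer_instance
  obtain ⟨q, N, hq, hN, hN1, hNL, ⟨hNc, hNq⟩, hmin⟩ :=
    Core.exists_elementaryAbelian_minimal_normal_le hL
  have hf := QuotientGroup.mk'_surjective N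
  have hm : ∀ r : ℕ, r.Prime → (pElementClosure r (⊤ : Subgroup G)).map (QuotientGroup.mk' N) =
      pElementClosure r ⊤ := fun r hr => by
    have := Fact.mk hr
    rw [map_pec, map_top_of_surjective _ hf]
  have h1 := ih _ (by
    rw [← hn, ← index_eq_card, ← N.card_mul_index]
    exact lt_mul_of_one_lt_left (Nat.pos_of_ne_zero index_ne_zero_of_finite)
      (N.one_lt_card_iff_ne_bot.mpr hN1)) (G ⧸ N) rfl (by
      rw [← hm p hp.out]
      exact Group.isSolvable_of_surjective (MonoidHom.subgroupMap_surjective _ _))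
    (hr.of_surjective _ hf) (P.mapSurjective hf) (by
      rw [← hm 2 Nat.prime_two, Sylow.coe_mapSurjective, ← Subgroup.map_sup, hP,
        map_top_of_surjective _ hf])
  have h2 : ((P : Subgroup G) ⊔ N).Normal := by
    have := h1.comap (QuotientGroup.mk' N)
    rwa [Sylow.coe_mapSurjective, comap_map_eq, QuotientGroup.ker_mk'] at this
  have hNq' : IsPGroup q N := fun x => ⟨1, Subtype.ext (by simpa using hNq x x.2)⟩
  by_cases hqp : q = p
  · rwa [sup_eq_left.mpr ((hqp ▸ hNq').le_sylow_of_normal P)] at h2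
  have := Fact.mk hq
  have hcop : (Nat.card P).Coprime (Nat.card N) :=
    IsPGroup.coprime_card_of_ne p q (Ne.symm hqp) _ _ P.isPGroup' hNq'
  have hpN : ¬ p ∣ Nat.card N := fun h => by
    obtain ⟨k, hk⟩ := hNq'.exists_card_eq
    exact hqp ((Nat.prime_dvd_prime_iff_eq hp.out hq).mp (hp.out.dvd_of_dvd_pow (hk ▸ h))).symm
  have hNN : N ≤ centralizer (N : Set G) := le_centralizer N
  have h3 : N ⊔ normalizer ((P : Subgroup G) : Set G) = ⊤ := by
    have h3 : normalizer ((P : Subgroup G) : Set G) ⊔ (P ⊔ N) = ⊤ :=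
      Sylow.normalizer_sup_eq_top' P (le_sup_left (b := N))
    rwa [← sup_assoc, sup_eq_left.mpr le_normalizer, sup_comm] at h3
  rcases hmin (N ⊓ centralizer ((P : Subgroup G) : Set G)) (normalizer_eq_top_iff.mp (eq_top_iff.mpr (h3.ge.trans
    (sup_le ((hNN.trans (centralizer_le (by simp))).trans (centralizer_le_normalizer _))
      (Coprime.le_normalizer_inf le_normalizer_of_normal (le_normalizer_centralizer
        (le_refl _))))))) inf_le_left with hD | hD
  swap
  · refine normalizer_eq_top_iff.mp ?_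
    rw [← h3, eq_comm, sup_eq_right]
    exact (hD.ge.trans inf_le_right).trans (centralizer_le_normalizer _)
  exfalso
  have h4 : N ⊓ normalizer ((P : Subgroup G) : Set G) = ⊥ :=
    (inf_normalizer_eq hpN P.isPGroup' le_normalizer_of_normal).trans hD
  have h5 := commutator_sup_centralizer (K := N) le_normalizer_of_normal hcop
    (Or.inr (isSolvable_of_isMulCommutative N))
  rw [hD, sup_bot_eq] at h5
  have hker : ∀ χ : IrrCharacter G, (∀ g, ((χ : G → ℂ) g).im = 0) → ∀ x ∈ N,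
      (χ : G → ℂ) x = (χ : G → ℂ) 1 := fun χ hχ =>
    eq_of_le_commutator χ.2 (hr χ hχ) (W := N ⊔ P) (fun ψ hψ h =>
      Nat.eq_one_of_dvd_coprimes (coprime_of_isPGroup P.isPGroup' h)
        ((deg_dvd_index_of_comm hψ (N.subgroupOf (N ⊔ P)) fun a ha b hb =>
          Subtype.ext (hNN hb a ha)).trans (relIndex_sup_dvd_card le_normalizer_of_normal)) dvd_rfl)
      N (h5.ge.trans (commutator_mono le_sup_left le_sup_right))
  obtain ⟨⟨x, hx⟩, hx1⟩ := ne_bot_iff_exists_ne_one.mp hN1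
  rcases hq.eq_two_or_odd' with rfl | hodd
  · exact false_of_compl_two h3 h4 hx (fun e => hx1 (Subtype.ext e)) (pow_two x ▸ hNq x hx) hker
  obtain ⟨k, hk⟩ := hNq'.exists_card_eq
  have h6 := pec_two_le_centralizer N (hk ▸ hodd.pow) hker
  obtain ⟨K, hK⟩ : ∃ K, K = pElementClosure 2 (⊤ : Subgroup G) := ⟨_, rfl⟩
  rw [← hK] at h6 hP
  have : K.Normal := hK ▸ inferInstance
  have hNK : N ≤ K := le_of_coprime_index (hcop.symm.coprime_dvd_right (by
    rw [← relIndex_top_right, ← hP]; exact relIndex_sup_dvd_card le_normalizer_of_normal))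
  have h7 : N ⊔ (normalizer ((P : Subgroup G) : Set G) ⊓ K) = K := by
    rw [← sup_inf_dedekind le_normalizer_of_normal hNK, h3, top_inf_eq]
  have h8 := (subnIn_of_le_normalizer (inf_le_right (a := normalizer ((P : Subgroup G) : Set G))) (h7.ge.trans
    (sup_le ((le_centralizer_iff.mp h6).trans ((centralizer_le (by simp)).trans
      (centralizer_le_normalizer _))) le_normalizer))).pec_le (p := 2) (by
      refine Nat.Coprime.coprime_dvd_left ?_ (Nat.coprime_two_right.mpr (hk ▸ hodd.pow))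
      rw [← congrArg (relIndex _) h7, relIndex_sup_eq le_normalizer_of_normal]
      exact relIndex_dvd_card _ _)
  rw [hK, pec_pec, ← hK] at h8
  exact hN1 (le_bot_iff.mp ((le_inf le_rfl (hNK.trans (h8.trans inf_le_left))).trans h4.le))

theorem sylow_normal [hp : Fact p.Prime] (hs : Group.IsSolvable (pElementClosure p (⊤ : Subgroup G)))
    (hr : RD p G) (U : Subgroup G) [U.Normal] (hKU : pElementClosure 2 ⊤ ≤ U) {a : ℕ}
    (ha : (pElementClosure 2 ⊤).relIndex U = p ^ a) (Q : Sylow p U) : (Q : Subgroup U).Normal := by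
  have h1 : (pElementClosure 2 (⊤ : Subgroup U)) = (pElementClosure 2 ⊤).subgroupOf U := by
    refine map_injective U.subtype_injective ?_
    rw [map_pec, ← MonoidHom.range_eq_map, range_subtype, pec_eq_of_le_of_le hKU le_top,
      map_subgroupOf_eq_of_le hKU]
  refine sylow_normal_aux _ U rfl ?_ (hr.normal U (Odd.of_dvd_nat (Nat.coprime_two_right.mp ?_)
    (index_dvd_of_le hKU))) Q ?_
  · have h2 : (pElementClosure p (⊤ : Subgroup U)).map U.subtype ≤ pElementClosure p ⊤ :=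
      (map_pec_le _ _).trans (pec_mono le_top)
    exact Group.isSolvable_of_isSolvable_injective (f := (inclusion h2).comp (U.subtype.subgroupMap _))
      fun x y e => Subtype.ext (Subtype.ext
        (congrArg (fun z : pElementClosure p (⊤ : Subgroup G) => (z : G)) e :))
  · simpa using coprime_relIndex_pec (p := 2) (⊤ : Subgroup G)
  · refine index_eq_one.mp (Nat.eq_one_of_dvd_coprimes ?_ (index_dvd_of_le le_sup_left)
      (index_dvd_of_le le_sup_right))
    rw [h1, show ((pElementClosure 2 ⊤).subgroupOf U).index = _ from ha]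
    exact ((Nat.Prime.coprime_iff_not_dvd hp.out).mpr Q.not_dvd_index).pow_left _

end CfsgLib.McKay
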