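import Mathlib
import Cfsg.Agent.Lib.McKay.RealDeg
import Cfsg.Agent.S4914

/-! A correspondence of real characters with the normalizer of a Sylow subgroup. -/

set_option autoImplicit false

namespace CfsgLib.McKay

open Cfsg CfsgLib.Char CfsgLib.CharDeep CfsgLib.ChDeg CfsgLib.Glaub CfsgLib.Coprime CfsgLib.PComp
  Subgroup
open scoped ComplexConjugate Pointwise commutatorElement

theorem mult_pw {G M : Type*} [Group G] [Group M] [Fintype M] {k : ℕ} (hk : k.Coprime (Nat.card M))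
    (κ : M →* G) (χ : G → ℂ) (θ : M → ℂ) : mult κ (pw k χ) (pw k θ) = mult κ χ θ := by
  unfold mult classInner
  rw [Fintype.sum_equiv (powCoprime hk.symm) _ (fun m => χ (κ m) * conj (θ m)) fun m => by simp [pw]]

variable {X : Type*} [Group X] [Finite X] {p k : ℕ}

theorem relIndex_normalizer_modEq [Fact p.Prime] (P : Sylow p X) {T : Subgroup X}
    (h : (P : Subgroup X) ≤ T) :
    (normalizer ((P : Subgroup X) : Set X)).relIndex T ≡ 1 [MOD p] := by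
  have h1 := card_sylow_modEq_one p T
  rw [(P.subtype h).card_eq_index_normalizer] at h1
  rw [relIndex, subgroupOf_normalizer_eq h]
  exact h1

theorem index_modEq_relIndex [Fact p.Prime] (P : Sylow p X) {T : Subgroup X}
    (h : (P : Subgroup X) ≤ T) :
    T.relIndex ⊤ ≡ T.relIndex (normalizer ((P : Subgroup X) : Set X)) [MOD p] := by
  have h1 := relIndex_mul_relIndex (normalizer ((P : Subgroup X) : Set X) ⊓ T) _ ⊤ inf_le_left le_top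
  have h2 := relIndex_mul_relIndex (normalizer ((P : Subgroup X) : Set X) ⊓ T) _ ⊤ inf_le_right le_top
  rw [inf_relIndex_left] at h1
  rw [inf_relIndex_right, ← h1] at h2
  have h3 := (relIndex_normalizer_modEq P h).mul_right (T.relIndex ⊤)
  have h4 := (relIndex_normalizer_modEq P le_top).mul_left
    (T.relIndex (normalizer ((P : Subgroup X) : Set X)))
  rw [h2, one_mul] at h3
  rw [mul_one] at h4
  exact h3.symm.trans h4

theorem real_iff_pw (hk : ∀ g : X, g ^ k = g⁻¹) {H : Subgroup X} {χ : H → ℂ} (hχ : IsCharacter H χ) :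
    (∀ g, (χ g).im = 0) ↔ pw k χ = χ := by
  rw [real_iff_inv hχ, funext_iff]
  exact forall_congr' fun g => by rw [pw, show g ^ k = g⁻¹ from Subtype.ext (hk g)]

theorem exists_fixed_over (hk : k.Coprime (Nat.card X)) (hk₂ : ∀ g : X, g ^ k = g⁻¹)
    {K H : Subgroup X} (hKH : K ≤ H) (hH : H ≤ normalizer (K : Set X)) (hodd : Odd (K.relIndex H))
    {θ : K → ℂ} (hθ : IsIrrCharacter K θ) (hθk : pw k θ = θ) :
    ∃ χ, (IsIrrCharacter H χ ∧ pw k χ = χ ∧ Over (inclusion hKH) χ θ) ∧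
      charDegree χ = (stab K θ).relIndex H * charDegree θ ∧
      ∀ χ', IsIrrCharacter H χ' → pw k χ' = χ' → Over (inclusion hKH) χ' θ → χ' = χ := by
  have hke : ∀ g : X, g ^ (k ^ 2 ^ 1) = g := fun g => by
    rw [pow_one, pow_two, pow_mul, hk₂, hk₂, inv_inv]
  obtain ⟨T, hT⟩ : ∃ T, T = H ⊓ stab K θ := ⟨_, rfl⟩
  have hTH : T ≤ H := hT ▸ inf_le_left
  have hKT : K ≤ T := hT ▸ le_inf hKH (le_stab (isClassFunction_of_isIrr hθ))
  have hoT : Odd (K.relIndex T) := hodd.of_dvd_nat ⟨_, (relIndex_mul_relIndex K T H hKT hTH).symm⟩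
  have := normal_subgroupOf_of_le_normalizer (hTH.trans hH)
  obtain ⟨η, hη, h1, h2, h3⟩ := exists_unique_fixed hk hke (fun g _ => hk₂ g) hθ hθk T hKT
    (hT ▸ inf_le_right) hoT (commutator_sup_lt (hTH.trans hH) (FT.odd_order_solvable hoT))
  have h4 : Over (inclusion hKT) η θ := over_of_res hθ one_ne_zero fun m => by rw [h1, one_mul]
  obtain ⟨χ, hχ, h5⟩ := exists_over hTH hη
  refine ⟨χ, ⟨hχ, cliffA_inj hKT hTH hH hθ hT hη h4 (isIrr_pw (coprime_sub hk H) hχ) hχ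
    (h2 ▸ (over_pw (coprime_sub hk T)).mpr h5) h5, Over.trans (fun _ => rfl)
      (isCharacter_of_isIrr hχ) hη (isCharacter_of_isIrr hθ) h5 h4⟩, ?_, fun χ' hχ' h6 h7 => ?_⟩
  · have := Fintype.ofFinite H
    rw [← cliffA_key hKT hTH hH hθ hT hη h4 hχ h5, deg_ind _ (isCharacter_of_isIrr
      (isIrr_comp_mulEquiv (subgroupOfEquivOfLe hTH) hη)), ← inf_relIndex_left, ← hT]
    congr 1
    exact deg_congr ((congrArg η rfl).trans (h1 1))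
  · obtain ⟨η', hη', h8, h9⟩ := Over.exists_between (inclusion hTH) (inclusion hKT) (fun _ => rfl)
      (isCharacter_of_isIrr hχ') (isCharacter_of_isIrr hθ) h7
    have h10 := h3 η' hη' (cliffA_unique hKT hTH hH hθ hT (isIrr_pw (coprime_sub hk T) hη') hη'
      (hθk ▸ (over_pw (coprime_sub hk K)).mpr h9) h9 hχ'
      (h6 ▸ (over_pw (coprime_sub hk T)).mpr h8) h8) h9
    exact cliffA_inj hKT hTH hH hθ hT hη h4 hχ' hχ (h10 ▸ h8) h5

theorem rel_glauberman [hp : Fact p.Prime] {P K C : Subgroup X} [Fintype C] (hP : IsPGroup p P)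
    (hPK : P ≤ normalizer (K : Set X)) (hQ : K ≤ normalizer ((P ⊓ K : Subgroup X) : Set X))
    (hi : ¬ p ∣ P.relIndex K) (hC : C = K ⊓ normalizer (P : Set X)) (hCK : C ≤ K) :
    RelBij (fun θ : K → ℂ => IsIrrCharacter K θ ∧ P ≤ stab K θ)
      (fun β : C → ℂ => IsIrrCharacter C β ∧ P ≤ stab C β)
      (fun θ β => ¬ p ∣ mult (inclusion hCK) θ β) ∧ ∀ θ β, IsIrrCharacter K θ → P ≤ stab K θ →
      IsIrrCharacter C β → P ≤ stab C β → ¬ p ∣ mult (inclusion hCK) θ β →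
        (charDegree β : ZMod p) = charDegree θ ∨ (charDegree β : ZMod p) = -charDegree θ := by
  have hPC : P ≤ normalizer (C : Set X) :=
    hC ▸ Coprime.le_normalizer_inf hPK (le_normalizer.trans le_normalizer)
  obtain ⟨f, hf, h⟩ := Cfsg.Agent.S4914.result p P K (P ⊓ K) C hP hPK inf_le_right
    (fun k hk q hq => conj_mem_of_le_normalizer hQ hk hq) (hP.to_le inf_le_left).exists_card_eq
    (by rwa [inf_relIndex_right]) hCK (fun k => by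
      rw [hC]
      refine and_congr_right fun hk => ⟨fun h x hx => ⟨?_, K.mul_mem
        (conj_mem_of_le_normalizer hPK hx hk) (K.inv_mem hk)⟩, fun h => mem_normalizer_fintype
          fun x hx => ?_⟩
      · simpa [mul_assoc] using P.mul_mem hx ((mem_normalizer_iff.mp h _).mp (P.inv_mem hx))
      · simpa [mul_assoc] using P.mul_mem hx (h _ (P.inv_mem hx)).1)
  have key : ∀ θ β, ¬ p ∣ mult (inclusion hCK) θ.1 β.1 ↔ β = f θ := fun θ β => by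
    obtain ⟨m, h1, h2, h3⟩ := (h θ).1 β
    rw [finsum_eq_sum_of_fintype] at h1
    rw [mult_eq_of_eq (inclusion hCK) h1]
    refine ⟨fun h4 => not_not.mp fun h5 => h4 (h3 h5), fun h4 h5 => ?_⟩
    rw [← ZMod.natCast_eq_zero_iff] at h5
    rcases h2 h4 with h6 | h6 <;> simp [h5] at h6
  refine ⟨⟨fun θ hθ => ?_, fun β hβ => ?_⟩, fun θ β h1 h2 h3 h4 h5 => ?_⟩
  · obtain ⟨β, e⟩ : ∃ β, β = f ⟨⟨θ, hθ.1⟩, fun x hx => (hθ.2 hx).2⟩ := ⟨_, rfl⟩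
    refine ⟨β.1, ⟨⟨β.1.2, fun x hx => ⟨hPC hx, β.2 x hx⟩⟩, ((key _ β).mpr e :)⟩, fun β' h' => ?_⟩
    have h1 := ((key ⟨⟨θ, hθ.1⟩, fun x hx => (hθ.2 hx).2⟩
      ⟨⟨β', h'.1.1⟩, fun x hx => (h'.1.2 hx).2⟩).mp h'.2).trans e.symm
    exact congrArg Subtype.val (congrArg Subtype.val h1)
  · obtain ⟨θ, e⟩ := hf.2 ⟨⟨β, hβ.1⟩, fun x hx => (hβ.2 hx).2⟩
    refine ⟨θ.1, ⟨⟨θ.1.2, fun x hx => ⟨hPK hx, θ.2 x hx⟩⟩, ((key θ _).mpr e.symm :)⟩, fun θ' h' => ?_⟩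
    have h1 := hf.1 (((key ⟨⟨θ', h'.1.1⟩, fun x hx => (h'.1.2 hx).2⟩
      ⟨⟨β, hβ.1⟩, fun x hx => (hβ.2 hx).2⟩).mp h'.2).symm.trans e.symm)
    exact congrArg Subtype.val (congrArg Subtype.val h1)
  · have h6 := (h ⟨⟨θ, h1⟩, fun x hx => (h2 hx).2⟩).2
    rwa [← (key ⟨⟨θ, h1⟩, fun x hx => (h2 hx).2⟩ ⟨⟨β, h3⟩, fun x hx => (h4 hx).2⟩).mp h5] at h6

theorem real_corr [hp : Fact p.Prime] (hk : k.Coprime (Nat.card X)) (hk₂ : ∀ g : X, g ^ k = g⁻¹)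
    (hs : Group.IsSolvable (pElementClosure p (⊤ : Subgroup X))) (hr : RD p X) (P : Sylow p X)
    {N : Subgroup X} (hN : N = normalizer ((P : Subgroup X) : Set X)) :
    ∃ r : ((⊤ : Subgroup X) → ℂ) → (N → ℂ) → Prop,
      RelBij (fun χ => IsIrrCharacter _ χ ∧ pw k χ = χ)
        (fun ξ => IsIrrCharacter N ξ ∧ pw k ξ = ξ ∧ ¬ p ∣ charDegree ξ) r ∧
      ∀ χ ξ, IsIrrCharacter _ χ → pw k χ = χ → IsIrrCharacter N ξ → pw k ξ = ξ → r χ ξ →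
        (charDegree ξ : ZMod p) = charDegree χ ∨ (charDegree ξ : ZMod p) = -charDegree χ := by
  have hke : ∀ g : X, g ^ (k ^ 2 ^ 1) = g := fun g => by
    rw [pow_one, pow_two, pow_mul, hk₂, hk₂, inv_inv]
  obtain ⟨K, hK⟩ : ∃ K, K = pElementClosure 2 (⊤ : Subgroup X) := ⟨_, rfl⟩
  have : K.Normal := hK ▸ pec_normal ⊤
  obtain ⟨C, hC⟩ : ∃ C, C = K ⊓ N := ⟨_, rfl⟩
  have := Fintype.ofFinite C
  have hCK : C ≤ K := hC ▸ inf_le_left
  have hCN : C ≤ N := hC ▸ inf_le_right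
  have hPN : (P : Subgroup X) ≤ N := hN ▸ le_normalizer
  have hNK : ∀ {H : Subgroup X}, H ≤ normalizer (K : Set X) := fun {_} => le_normalizer_of_normal
  have hNC : N ≤ normalizer (C : Set X) := hC ▸ McKay.le_normalizer_inf hNK
  have ho : Odd (K.relIndex ⊤) := hK ▸ Nat.coprime_two_right.mp (coprime_relIndex_pec ⊤)
  have hoN : Odd (C.relIndex N) := by
    rw [hC, inf_relIndex_right]
    exact ho.of_dvd_nat (by simpa using relIndex_dvd_index_of_normal K N)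
  have hi : ∀ H : Subgroup X, (P : Subgroup X) ≤ H → ¬ p ∣ (P : Subgroup X).relIndex H :=
    fun H h h' => P.not_dvd_index (h'.trans (relIndex_dvd_index_of_le h))
  have hiK : ¬ p ∣ (P : Subgroup X).relIndex K := relIndex_sup_eq (K := K) hNK ▸ hi _ le_sup_right
  obtain ⟨hG, hdeg⟩ := rel_glauberman P.isPGroup' hNK (by
    obtain ⟨Q, hQ⟩ := exists_sylow_map_eq (inf_le_right (a := (P : Subgroup X)) (b := K))
      (P.isPGroup'.to_le inf_le_left) (by rwa [inf_relIndex_right])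
    have := sylow_normal hs hr K hK.ge (a := 0) (by simp [hK]) Q
    rw [← hQ]
    exact fun g hg => le_normalizer_map _ ⟨⟨g, hg⟩, le_normalizer_of_normal (mem_top _), rfl⟩)
    hiK (hN ▸ hC) hCK
  have hst : ∀ {L : Subgroup X} {ν : L → ℂ} {g : X} (hg : g ∈ normalizer (L : Set X)), g ∈ N →
      (P : Subgroup X) ≤ stab L ν → (P : Subgroup X) ≤ stab L (cA L hg ν) :=
    fun hg hgN h x hx => mem_stab_cA hg (h ((mem_normalizer_iff.mp (hN ▸ hgN) x).mp hx))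
  have hpw : ∀ {θ β}, IsIrrCharacter K θ → (P : Subgroup X) ≤ stab K θ → IsIrrCharacter C β →
      (P : Subgroup X) ≤ stab C β → ¬ p ∣ mult (inclusion hCK) θ β →
      (pw k θ = θ ↔ pw k β = β) := fun h1 h2 h3 h4 h5 =>
    ⟨fun h => (hG.1 _ ⟨h1, h2⟩).unique ⟨⟨isIrr_pw (coprime_sub hk C) h3,
      h4.trans (stab_le_stab_pw k _)⟩, by
        rw [← h]; beta_reduce; rwa [mult_pw (coprime_sub hk C)]⟩ ⟨⟨h3, h4⟩, h5⟩,
    fun h => (hG.2 _ ⟨h3, h4⟩).unique ⟨⟨isIrr_pw (coprime_sub hk K) h1,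
      h2.trans (stab_le_stab_pw k _)⟩, by
        rw [← h]; beta_reduce; rwa [mult_pw (coprime_sub hk C)]⟩ ⟨⟨h1, h2⟩, h5⟩⟩
  have hcA : ∀ {θ θ' β β'} {g : X} (hg : g ∈ N), IsIrrCharacter K θ → (P : Subgroup X) ≤ stab K θ →
      IsIrrCharacter C β → (P : Subgroup X) ≤ stab C β → ¬ p ∣ mult (inclusion hCK) θ β →
      IsIrrCharacter K θ' → (P : Subgroup X) ≤ stab K θ' → IsIrrCharacter C β' →
      (P : Subgroup X) ≤ stab C β' → ¬ p ∣ mult (inclusion hCK) θ' β' →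
      (cA K (hNK hg) θ = θ' ↔ cA C (hNC hg) β = β') := fun hg h1 h2 h3 h4 h5 k1 k2 k3 k4 k5 =>
    ⟨fun h => (hG.1 _ ⟨k1, k2⟩).unique ⟨⟨isIrr_cA _ h3, hst _ hg h4⟩, by
        rw [← h]; beta_reduce; rwa [mult_cA_cA]⟩
      ⟨⟨k3, k4⟩, k5⟩, fun h => (hG.2 _ ⟨k3, k4⟩).unique ⟨⟨isIrr_cA _ h1, hst _ hg h2⟩,
        by
        rw [← h]; beta_reduce; rwa [mult_cA_cA]⟩ ⟨⟨k1, k2⟩, k5⟩⟩
  have hu : ∀ {χ θ}, IsIrrCharacter _ χ → pw k χ = χ → IsIrrCharacter K θ →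
      Over (inclusion (le_top : K ≤ ⊤)) χ θ → pw k θ = θ := fun h1 h2 h3 h4 =>
    pw_eq_of_not_dvd_relIndex (p := 2) hk hke le_top hNK (Odd.not_two_dvd_nat ho) h1 h2 h3 h4
  have huN : ∀ {ξ β}, IsIrrCharacter _ ξ → pw k ξ = ξ → IsIrrCharacter C β →
      Over (inclusion hCN) ξ β → pw k β = β := fun h1 h2 h3 h4 =>
    pw_eq_of_not_dvd_relIndex (p := 2) hk hke hCN hNC (Odd.not_two_dvd_nat hoN) h1 h2 h3 h4
  let r : ((⊤ : Subgroup X) → ℂ) → (N → ℂ) → Prop := fun χ ξ => ∃ θ β, IsIrrCharacter K θ ∧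
    (P : Subgroup X) ≤ stab K θ ∧ IsIrrCharacter C β ∧ (P : Subgroup X) ≤ stab C β ∧
    ¬ p ∣ mult (inclusion hCK) θ β ∧ Over (inclusion le_top) χ θ ∧ Over (inclusion hCN) ξ β
  have hd : ∀ χ ξ, IsIrrCharacter _ χ → pw k χ = χ → IsIrrCharacter N ξ → pw k ξ = ξ → r χ ξ →
      (charDegree ξ : ZMod p) = charDegree χ ∨ (charDegree ξ : ZMod p) = -charDegree χ := by
    rintro χ ξ hχ hχk hξ hξk ⟨θ, β, h1, h2, h3, h4, h5, h6, h7⟩
    obtain ⟨χ', -, e1, e2⟩ := exists_fixed_over hk hk₂ le_top hNK ho h1 (hu hχ hχk h1 h6)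
    obtain ⟨ξ', -, e3, e4⟩ := exists_fixed_over hk hk₂ hCN hNC hoN h3 (huN hξ hξk h3 h7)
    have e5 : (stab C β).relIndex N = (stab K θ).relIndex N := by
      rw [← inf_relIndex_right, ← inf_relIndex_right (stab K θ)]
      congr 1
      ext g
      refine and_congr_left fun hg => ?_
      exact ((cA_eq_self_iff (hNC hg)).symm.trans
        (hcA hg h1 h2 h3 h4 h5 h1 h2 h3 h4 h5).symm).trans (cA_eq_self_iff _)
    rw [e2 χ hχ hχk h6, e4 ξ hξ hξk h7, e1, e3, e5, Nat.cast_mul, Nat.cast_mul,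
      (ZMod.natCast_eq_natCast_iff _ _ _).mpr (index_modEq_relIndex P h2), ← hN]
    rcases hdeg θ β h1 h2 h3 h4 h5 with h | h <;> simp [h]
  have hrd : ∀ χ : (⊤ : Subgroup X) → ℂ, IsIrrCharacter _ χ → pw k χ = χ → ¬ p ∣ charDegree χ :=
    fun χ h1 h2 => hr.of_surjective (topEquiv (G := X)).symm.toMonoidHom
      (topEquiv (G := X)).symm.surjective ⟨χ, h1⟩
      ((real_iff_pw hk₂ (isCharacter_of_isIrr h1)).mpr h2)
  refine ⟨r, ⟨fun χ hχ => ?_, fun ξ hξ => ?_⟩, hd⟩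
  · obtain ⟨θ₀, h0, h0'⟩ := exists_under (inclusion (le_top : K ≤ ⊤)) hχ.1
    obtain ⟨g, hg, h2⟩ := exists_inv_under le_top hNK P.isPGroup' le_top (hi _ le_top) hχ.1
      (hrd χ hχ.1 hχ.2) h0 h0'
    have h6 := (over_cA le_top hg (hNK hg) (isClassFunction_of_isIrr hχ.1)).mpr h0'
    have h1 := isIrr_cA (hNK hg) h0
    obtain ⟨β, ⟨⟨h3, h4⟩, h5⟩, -⟩ := hG.1 _ ⟨h1, h2⟩
    obtain ⟨ξ, ⟨k1, k2, k3⟩, -, k4⟩ := exists_fixed_over hk hk₂ hCN hNC hoN h3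
      ((hpw h1 h2 h3 h4 h5).mp (hu hχ.1 hχ.2 h1 h6))
    have h8 : r χ ξ := ⟨_, β, h1, h2, h3, h4, h5, h6, k3⟩
    refine ⟨ξ, ⟨⟨k1, k2, fun h => hrd χ hχ.1 hχ.2 ?_⟩, h8⟩, ?_⟩
    · rw [← ZMod.natCast_eq_zero_iff] at h ⊢
      rcases hd χ ξ hχ.1 hχ.2 k1 k2 h8 with h' | h' <;> simpa [h, eq_comm] using h'
    · rintro ξ' ⟨l, θ', β', l1, l2, l3, l4, l5, l6, l7⟩
      obtain ⟨n, hn, e⟩ := exists_cA_eq_normalizer le_top hNK P.isPGroup' le_top (hi _ le_top) hχ.1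
        h1 l1 h6 l6 h2 l2
      have hn' : n ∈ N := hN ▸ hn.2
      rw [← (hcA hn' h1 h2 h3 h4 h5 l1 l2 l3 l4 l5).mp e,
        over_cA hCN hn' _ (isClassFunction_of_isIrr l.1)] at l7
      exact k4 ξ' l.1 l.2.1 l7
  · obtain ⟨β₀, h0, h0'⟩ := exists_under (inclusion hCN) hξ.1
    obtain ⟨g, hg, h4⟩ := exists_inv_under hCN hNC P.isPGroup' hPN (hi _ hPN) hξ.1 hξ.2.2 h0 h0'
    have h7 := (over_cA hCN hg (hNC hg) (isClassFunction_of_isIrr hξ.1)).mpr h0'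
    have h3 := isIrr_cA (hNC hg) h0
    obtain ⟨θ, ⟨⟨h1, h2⟩, h5⟩, -⟩ := hG.2 _ ⟨h3, h4⟩
    obtain ⟨χ, ⟨k1, k2, k3⟩, -, k4⟩ := exists_fixed_over hk hk₂ le_top hNK ho h1
      ((hpw h1 h2 h3 h4 h5).mpr (huN hξ.1 hξ.2.1 h3 h7))
    refine ⟨χ, ⟨⟨k1, k2⟩, θ, _, h1, h2, h3, h4, h5, k3, h7⟩, ?_⟩
    rintro χ' ⟨l, θ', β', l1, l2, l3, l4, l5, l6, l7⟩
    obtain ⟨n, hn, e⟩ := exists_cA_eq hCN hNC hξ.1 h3 l3 h7 l7
    rw [← (hcA hn h1 h2 h3 h4 h5 l1 l2 l3 l4 l5).mpr e,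
      over_cA le_top (mem_top n) _ (isClassFunction_of_isIrr l.1)] at l6
    exact k4 χ' l.1 l.2 l6

theorem real_bij [hp : Fact p.Prime] (hs : Group.IsSolvable (pElementClosure p (⊤ : Subgroup X)))
    (hr : RD p X) (P : Sylow p X) {N : Subgroup X} (hN : N = normalizer ((P : Subgroup X) : Set X)) :
    ∃ f : {χ : IrrCharacter X // ∀ g, ((χ : X → ℂ) g).im = 0} → {ξ : IrrCharacter N //
      (∀ n, ((ξ : N → ℂ) n).im = 0) ∧ ¬ p ∣ charDegree (ξ : N → ℂ)}, Function.Bijective f ∧ ∀ χ,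
        (charDegree ((f χ).1 : N → ℂ) : ZMod p) = charDegree (χ.1 : X → ℂ) ∨
        (charDegree ((f χ).1 : N → ℂ) : ZMod p) = -charDegree (χ.1 : X → ℂ) := by
  obtain ⟨k, hk, -, hk₂⟩ := exists_pow_eq_inv X
  obtain ⟨r, ⟨h1, h2⟩, h3⟩ := real_corr hk hk₂ hs hr P hN
  have h4 : ∀ χ : {χ : IrrCharacter X // ∀ g, ((χ : X → ℂ) g).im = 0},
      IsIrrCharacter (⊤ : Subgroup X) (fun g => χ.1.1 g) ∧
        pw k (fun g : (⊤ : Subgroup X) => χ.1.1 g) = fun g : (⊤ : Subgroup X) => χ.1.1 g := fun χ =>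
    ⟨isIrr_comp_mulEquiv topEquiv χ.1.2, (real_iff_pw hk₂ (isCharacter_restrict _
      (irr_isCharacter χ.1))).mp fun g => χ.2 g⟩
  choose F hF hF' using fun χ => h1 _ (h4 χ)
  refine ⟨fun χ => ⟨⟨F χ, (hF χ).1.1⟩, (real_iff_pw hk₂ (isCharacter_of_isIrr (hF χ).1.1)).mpr
    (hF χ).1.2.1, (hF χ).1.2.2⟩, ⟨fun χ χ' e => ?_, fun ξ => ?_⟩, fun χ =>
      h3 _ _ (h4 χ).1 (h4 χ).2 (hF χ).1.1 (hF χ).1.2.1 (hF χ).2⟩
  · have e' : F χ = F χ' := congrArg Subtype.val (congrArg Subtype.val e)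
    have h5 := (h2 _ (hF χ).1).unique ⟨h4 χ, (hF χ).2⟩ ⟨h4 χ', e' ▸ (hF χ').2⟩
    exact Subtype.ext (Subtype.ext (funext fun g => congrFun h5 ⟨g, mem_top g⟩))
  · have h5 := (real_iff_pw hk₂ (irr_isCharacter ξ.1)).mp ξ.2.1
    obtain ⟨χ, ⟨hχ, h6⟩, -⟩ := h2 ξ.1 ⟨ξ.1.2, h5, ξ.2.2⟩
    exact ⟨⟨⟨_, isIrr_comp_mulEquiv topEquiv.symm hχ.1⟩, fun g => (real_iff_pw hk₂
      (isCharacter_of_isIrr hχ.1)).mpr hχ.2 _⟩,
      Subtype.ext (Subtype.ext (hF' _ _ ⟨⟨ξ.1.2, h5, ξ.2.2⟩, h6⟩).symm)⟩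

end CfsgLib.McKay
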